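import Cfsg.Agent.Lib.Helper11.LeechMod2
import Cfsg.Agent.Lib.Helper33.Co2Main

set_option autoImplicit false

/-!
The automorphism group of the rank-24 lattice is transitive on the vectors of sum of squares 64.
-/

namespace Cfsg.Agent.Lib.Helper11

open Cfsg Cfsg.Agent.Lib.Helper9 Cfsg.Agent.Lib.Helper33

theorem sqNorm_add_two (y z : GolayPt → ℤ) :
    sqNorm (y + 2 • z) = sqNorm y + 4 * dotInt y z + 4 * sqNorm z := by
  unfold sqNorm dotInt
  rw [Finset.mul_sum, Finset.mul_sum, ← Finset.sum_add_distrib, ← Finset.sum_add_distrib]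
  apply Finset.sum_congr rfl
  intro i _
  simp only [Pi.add_apply, Pi.smul_apply]
  ring

theorem dot_add_two (y z : GolayPt → ℤ) :
    dotInt (y + 2 • z) y = sqNorm y + 2 * dotInt y z := by
  unfold sqNorm dotInt
  rw [Finset.mul_sum, ← Finset.sum_add_distrib]
  apply Finset.sum_congr rfl
  intro i _
  simp only [Pi.add_apply, Pi.smul_apply]
  ring

theorem sqNorm_add' (y z : GolayPt → ℤ) :
    sqNorm (y + z) = sqNorm y + 2 * dotInt y z + sqNorm z := by
  unfold sqNorm dotInt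
  rw [Finset.mul_sum, ← Finset.sum_add_distrib, ← Finset.sum_add_distrib]
  apply Finset.sum_congr rfl
  intro i _
  simp only [Pi.add_apply]
  ring

theorem dot_add_right' (y z : GolayPt → ℤ) :
    dotInt z (y + z) = dotInt y z + sqNorm z := by
  unfold sqNorm dotInt
  rw [← Finset.sum_add_distrib]
  apply Finset.sum_congr rfl
  intro i _
  simp only [Pi.add_apply]
  ring

/-- every vector of sum of squares 64 is a sum of two orthogonal minimal vectors -/
theorem dec64 (x : ↥leechLattice) (hx : sqNorm (x : GolayPt → ℤ) = 64) :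
    ∃ a b : ↥leechLattice, sqNorm (a : GolayPt → ℤ) = 32 ∧ sqNorm (b : GolayPt → ℤ) = 32 ∧
      dotInt (a : GolayPt → ℤ) (b : GolayPt → ℤ) = 0 ∧ x = a + b := by
  have h48 := mod2_main.1 x.1 x.2 hx
  have hlt : ({x.1, -x.1} : Set (GolayPt → ℤ)).ncard < (cross x.1).ncard := by
    rw [h48]
    have := Set.ncard_insert_le x.1 ({-x.1} : Set (GolayPt → ℤ))
    rw [Set.ncard_singleton] at this
    omega
  obtain ⟨y, hy, hyn⟩ := Set.exists_mem_notMem_of_ncard_lt_ncard hlt (Set.toFinite _)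
  simp only [Set.mem_insert_iff, Set.mem_singleton_iff, not_or] at hyn
  obtain ⟨hyL, hyN, z, hz, hxy⟩ := hy
  rw [hx] at hyN
  have hdot : dotInt x.1 y = 0 := by
    rcases Cfsg.Agent.S5592.result x.1 y x.2 hyL (fun h => hyn.1 h.symm) hx.le hyN.le
      ⟨z, hz, hxy⟩ with h | h
    · exact absurd (by rw [h, neg_neg]) hyn.2
    · exact h.2.2
  have hxe : x.1 = y + 2 • z := by rw [← hxy]; abel
  have e1 := sqNorm_add_two y z
  have e2 := dot_add_two y z
  rw [← hxe] at e1 e2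
  rw [hx, hyN] at e1
  rw [hdot, hyN] at e2
  refine ⟨⟨z, hz⟩, ⟨y + z, leechLattice.add_mem hyL hz⟩, ?_, ?_, ?_, ?_⟩
  · show sqNorm z = 32
    omega
  · show sqNorm (y + z) = 32
    rw [sqNorm_add', hyN]
    omega
  · show dotInt z (y + z) = 0
    rw [dot_add_right']
    omega
  · apply Subtype.ext
    show x.1 = z + (y + z)
    rw [hxe]
    funext i
    simp only [Pi.add_apply, Pi.smul_apply]
    ring

theorem smul_add' (g : ↥Co0) (a b : ↥leechLattice) : g • (a + b) = g • a + g • b := g.2.1 a b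

/-- transitivity on the vectors of sum of squares 64 -/
theorem trans64 (v w : ↥leechLattice) (hv : sqNorm (v : GolayPt → ℤ) = 64)
    (hw : sqNorm (w : GolayPt → ℤ) = 64) : ∃ g : ↥Co0, g • v = w := by
  obtain ⟨a, b, ha, hb, hab, rfl⟩ := dec64 v hv
  obtain ⟨a', b', ha', hb', hab', rfl⟩ := dec64 w hw
  obtain ⟨g1, hg1⟩ := to_lv0 (x := a) ha
  obtain ⟨g2, hg2⟩ := to_lv0 (x := a') ha'
  have h1 : g1 • b ∈ {y | y ∈ L2 ∧ ldot lv0 y = 0} := by
    refine ⟨L2_smul g1 b hb, ?_⟩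
    rw [← hg1, ldot_smul]
    exact hab
  have h2 : g2 • b' ∈ {y | y ∈ L2 ∧ ldot lv0 y = 0} := by
    refine ⟨L2_smul g2 b' hb', ?_⟩
    rw [← hg2, ldot_smul]
    exact hab'
  obtain ⟨h, hh1, hh2⟩ := cls0.trans _ h1 _ h2
  refine ⟨g2⁻¹ * h * g1, ?_⟩
  rw [smul_add', mul_smul, mul_smul, mul_smul, mul_smul, hg1, hh1, hh2, ← hg2, inv_smul_smul,
    inv_smul_smul]

end Cfsg.Agent.Lib.Helper11
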