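import Cfsg.Agent.Lib.Helper11.LeechCross
import Cfsg.Agent.Lib.Helper11.LeechTrans8
import Cfsg.Agent.Lib.Helper9.CoCenter

set_option autoImplicit false

/-!
The order of the automorphism group of the rank-24 lattice, by orbit-stabiliser on the vectors of
sum of squares 64 and the order of the monomial group.
-/

namespace Cfsg.Agent.Lib.Helper11

open Cfsg Cfsg.Agent.Lib.Helper9 Cfsg.Agent.Lib.Helper10 Cfsg.Agent.S5546
open scoped Pointwise

theorem stdCross_mem_leech {y : GolayPt → ℤ} (hy : y ∈ stdCross) : y ∈ leechLattice := by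
  obtain ⟨i, s, hs, rfl⟩ := hy
  rcases hs with rfl | rfl
  · exact single_mem i 1
  · exact single_mem i (-1)

theorem fixCross_inv {g : ↥Co0} (hg : FixCross g) : FixCross g⁻¹ := by
  obtain ⟨σ, -, c, -, hform⟩ := fixCross_monomial g hg
  rintro v ⟨i, s, hs, hv⟩
  have hu : Pi.single (σ.symm i) (if i ∈ c then -s else s) ∈ stdCross :=
    ⟨σ.symm i, _, by split_ifs <;> omega, rfl⟩
  have hgu : g • (⟨_, stdCross_mem_leech hu⟩ : ↥leechLattice) = v := by
    apply Subtype.ext
    rw [hform, hv, signedPerm_single, Equiv.apply_symm_apply]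
    congr 1
    split_ifs <;> simp
  rw [← hgu, inv_smul_smul]
  exact hu

/-- the stabiliser of the standard cross -/
def crossStab : Subgroup ↥Co0 where
  carrier := {g | FixCross g}
  one_mem' := fun v hv => by rw [one_smul]; exact hv
  mul_mem' := fun {a b} ha hb v hv => by rw [mul_smul]; exact ha _ (hb v hv)
  inv_mem' := fun {a} ha => fixCross_inv ha

theorem mem_crossStab (g : ↥Co0) : g ∈ crossStab ↔ FixCross g := Iff.rfl

theorem card_crossStab : Nat.card crossStab = 4096 * 244823040 := card_fixCross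

/-- the base vector `8 e` -/
def x0 : ↥leechLattice := E8 none

theorem x0_val : (x0 : GolayPt → ℤ) = Pi.single none 8 := E8_eq_single none

theorem sqNorm_single (i : GolayPt) (s : ℤ) : sqNorm (Pi.single i s : GolayPt → ℤ) = s ^ 2 := by
  unfold sqNorm
  rw [Finset.sum_eq_single i]
  · rw [Pi.single_eq_same]
  · intro j _ hj; rw [Pi.single_eq_of_ne hj]; norm_num
  · intro h; exact absurd (Finset.mem_univ i) h

theorem sqNorm_x0 : sqNorm (x0 : GolayPt → ℤ) = 64 := by
  rw [x0_val, sqNorm_single]; norm_num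

theorem sqNorm_stdCross {y : GolayPt → ℤ} (hy : y ∈ stdCross) : sqNorm y = 64 := by
  obtain ⟨i, s, hs, rfl⟩ := hy
  rw [sqNorm_single]
  rcases hs with rfl | rfl <;> norm_num

theorem single4_eq (i : GolayPt) : single4 i = Pi.single i 4 := by
  funext k
  rw [single4, Pi.single_apply]

theorem ncard_stdCross : stdCross.ncard = 48 := by
  have h : stdCross = Set.range (fun p : GolayPt × Bool =>
      (Pi.single p.1 (if p.2 then 8 else -8) : GolayPt → ℤ)) := by
    ext y
    constructor
    · rintro ⟨i, s, hs, rfl⟩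
      rcases hs with rfl | rfl
      · exact ⟨(i, true), rfl⟩
      · exact ⟨(i, false), rfl⟩
    · rintro ⟨⟨i, b⟩, rfl⟩
      refine ⟨i, _, ?_, rfl⟩
      cases b <;> simp
  have hinj : Function.Injective (fun p : GolayPt × Bool =>
      (Pi.single p.1 (if p.2 then 8 else -8) : GolayPt → ℤ)) := by
    rintro ⟨i, b⟩ ⟨j, b'⟩ h
    simp only at h
    have h1 := congrFun h i
    rw [Pi.single_eq_same, Pi.single_apply] at h1
    have hij : i = j := by
      by_contra hne
      rw [if_neg hne] at h1
      cases b <;> simp at h1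
    subst hij
    rw [if_pos rfl] at h1
    have : b = b' := by
      cases b <;> cases b' <;> simp at h1 ⊢
    rw [this]
  rw [h, ← Set.image_univ, Set.ncard_image_of_injective _ hinj, Set.ncard_univ, Nat.card_prod,
    Nat.card_eq_fintype_card, Nat.card_eq_fintype_card, card_golayPt, Fintype.card_bool]

theorem stdCross_eq_cross : stdCross = cross (x0 : GolayPt → ℤ) := by
  have h48 := mod2_main.1 x0.1 x0.2 sqNorm_x0
  apply Set.eq_of_subset_of_ncard_le
  · intro y hy
    refine ⟨stdCross_mem_leech hy, by rw [sqNorm_stdCross hy, sqNorm_x0], ?_⟩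
    obtain ⟨i, s, hs, rfl⟩ := hy
    rcases hs with rfl | rfl
    · refine ⟨_, minus_mem none i, ?_⟩
      rw [x0_val, single4_eq, single4_eq]
      funext k
      simp only [Pi.sub_apply, Pi.smul_apply, Pi.single_apply]
      split_ifs <;> simp
    · refine ⟨_, plus_mem none i, ?_⟩
      rw [x0_val, single4_eq, single4_eq]
      funext k
      simp only [Pi.sub_apply, Pi.add_apply, Pi.smul_apply, Pi.single_apply]
      split_ifs <;> simp
  · rw [h48, ncard_stdCross]
  · exact Set.finite_of_ncard_ne_zero (by rw [h48]; norm_num)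

theorem stab_le_crossStab : MulAction.stabilizer ↥Co0 x0 ≤ crossStab := by
  intro g hg
  rw [MulAction.mem_stabilizer_iff] at hg
  intro v hv
  rw [stdCross_eq_cross] at hv ⊢
  obtain ⟨-, hn, z, hz, hxz⟩ := hv
  refine ⟨(g • v).2, by rw [← hn]; exact g.2.2 v, (g • (⟨z, hz⟩ : ↥leechLattice)).1,
    (g • (⟨z, hz⟩ : ↥leechLattice)).2, ?_⟩
  have h1 : x0 = v + ((⟨z, hz⟩ : ↥leechLattice) + ⟨z, hz⟩) := by
    apply Subtype.ext
    show x0.1 = v.1 + (z + z)
    have : x0.1 = v.1 + (x0.1 - v.1) := by abel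
    rw [this, hxz, two_smul]
  have h2 : g • x0 = g • v + (g • (⟨z, hz⟩ : ↥leechLattice) + g • (⟨z, hz⟩ : ↥leechLattice)) := by
    conv_lhs => rw [h1]
    rw [smul_add', smul_add']
  rw [hg] at h2
  have h3 := congrArg Subtype.val h2
  rw [h3]
  show (g • v).1 + ((g • (⟨z, hz⟩ : ↥leechLattice)).1 + (g • (⟨z, hz⟩ : ↥leechLattice)).1) -
    (g • v).1 = _
  rw [two_smul]
  abel

theorem orbit_co0 : MulAction.orbit ↥Co0 x0 = {v : ↥leechLattice | sqNorm (v : GolayPt → ℤ) = 64} := by
  ext v
  constructor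
  · rintro ⟨g, rfl⟩
    show sqNorm ((g • x0 : ↥leechLattice) : GolayPt → ℤ) = 64
    rw [← sqNorm_x0]
    exact g.2.2 x0
  · intro hv
    obtain ⟨g, hg⟩ := trans64 x0 v sqNorm_x0 hv
    exact ⟨g, hg⟩

theorem card_orbit_co0 : Nat.card (MulAction.orbit ↥Co0 x0) = 398034000 := by
  rw [orbit_co0, Nat.card_coe_set_eq, ← Set.ncard_image_of_injective _ Subtype.val_injective]
  have : Subtype.val '' {v : ↥leechLattice | sqNorm (v : GolayPt → ℤ) = 64} = ↑(SN 64) := by
    ext x
    simp only [Set.mem_image, Set.mem_ofPred_eq, Finset.mem_coe, mem_SN le_rfl]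
    constructor
    · rintro ⟨v, hv, rfl⟩
      exact ⟨v.2, by exact_mod_cast hv⟩
    · rintro ⟨h1, h2⟩
      exact ⟨⟨x, h1⟩, by exact_mod_cast h2, rfl⟩
  rw [this, Set.ncard_coe_finset, card_SN le_rfl, cnt64]

theorem orbit_crossStab : MulAction.orbit ↥crossStab x0 =
    {v : ↥leechLattice | (v : GolayPt → ℤ) ∈ stdCross} := by
  ext v
  constructor
  · rintro ⟨g, rfl⟩
    exact g.2 x0 (E8_mem_stdCross none)
  · rintro ⟨i, s, hs, hv⟩
    obtain ⟨π, hπ, hπi⟩ := m24_trans_pt none i
    rcases hs with rfl | rfl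
    · refine ⟨⟨monoEl π hπ ∅ empty_mem_supports', monoEl_fixCross _ _ _ _⟩, ?_⟩
      apply Subtype.ext
      show signedPerm π ∅ x0.1 = v.1
      rw [x0_val, signedPerm_single, hπi, hv]
      simp
    · refine ⟨⟨monoEl π hπ Finset.univ univ_mem_supports, monoEl_fixCross _ _ _ _⟩, ?_⟩
      apply Subtype.ext
      show signedPerm π Finset.univ x0.1 = v.1
      rw [x0_val, signedPerm_single, hπi, hv]
      simp

theorem card_orbit_crossStab : Nat.card (MulAction.orbit ↥crossStab x0) = 48 := by
  rw [orbit_crossStab, Nat.card_coe_set_eq, ← Set.ncard_image_of_injective _ Subtype.val_injective]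
  have : Subtype.val '' {v : ↥leechLattice | (v : GolayPt → ℤ) ∈ stdCross} = stdCross := by
    ext x
    simp only [Set.mem_image, Set.mem_ofPred_eq]
    constructor
    · rintro ⟨v, hv, rfl⟩
      exact hv
    · intro h
      exact ⟨⟨x, stdCross_mem_leech h⟩, h, rfl⟩
  rw [this, ncard_stdCross]

/-- the two stabilisers of the base vector have the same order -/
theorem card_stab_eq : Nat.card (MulAction.stabilizer ↥crossStab x0) =
    Nat.card (MulAction.stabilizer ↥Co0 x0) := by
  apply Nat.card_congr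
  exact
    { toFun := fun g => ⟨g.1.1, g.2⟩
      invFun := fun g => ⟨⟨g.1, stab_le_crossStab g.2⟩, g.2⟩
      left_inv := fun g => rfl
      right_inv := fun g => rfl }

theorem card_Co0 : Nat.card ↥Co0 = 8315553613086720000 := by
  have h1 := Nat.card_congr (MulAction.orbitProdStabilizerEquivGroup ↥Co0 x0)
  have h2 := Nat.card_congr (MulAction.orbitProdStabilizerEquivGroup ↥crossStab x0)
  rw [Nat.card_prod, card_orbit_co0] at h1
  rw [Nat.card_prod, card_orbit_crossStab, card_stab_eq, card_crossStab] at h2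
  omega

end Cfsg.Agent.Lib.Helper11
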