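import Mathlib
import Cfsg.Agent.Lib.Helper3.Coprime
import Cfsg.Agent.Lib.Helper11.TwoComplement

set_option autoImplicit false

namespace Cfsg.Agent.Lib.Helper11

open Cfsg.Agent.Lib.Helper3

/-- An automorphism of odd order of a finite cyclic `2`-group is trivial. -/
theorem aut_eq_one_of_cyclic_two {A : Type*} [Group A] [Finite A] [IsCyclic A] (hA : IsPGroup 2 A)
    (β : MulAut A) (hβ : (orderOf β).Coprime 2) : β = 1 := by
  obtain ⟨k, hk⟩ := (IsPGroup.iff_card).1 hA
  have h1 : orderOf β ∣ Nat.card (MulAut A) := orderOf_dvd_natCard β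
  rw [IsCyclic.card_mulAut, hk] at h1
  have h2 : orderOf β ∣ 2 ^ k := by
    rcases Nat.eq_zero_or_pos k with rfl | hpos
    · simpa using h1
    · rw [Nat.totient_prime_pow Nat.prime_two hpos] at h1
      have : 2 ^ (k - 1) * (2 - 1) ∣ 2 ^ k := by
        simpa using pow_dvd_pow 2 (Nat.sub_le k 1)
      exact h1.trans this
  have h3 : orderOf β = 1 := Nat.eq_one_of_dvd_coprimes (hβ.pow_right k) dvd_rfl h2
  exact orderOf_eq_one_iff.1 h3

/-- Odd-order automorphisms of `2`-groups of "dihedral shape" (a cyclic subgroup `A` of index at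
most two, all elements outside `A` being involutions): trivial unless the group is a four-group. -/
theorem aut_eq_one_or_kleinFour {R : Type*} [Group R] [Finite R] (hR : IsPGroup 2 R)
    (A : Subgroup R) [IsCyclic A] (hidx : A = ⊤ ∨ A.index = 2)
    (hinv : ∀ x : R, x ∉ A → x * x = 1) (β : MulAut R) (hβ : (orderOf β).Coprime 2) :
    β = 1 ∨ IsKleinFour R := by
  obtain ⟨c, hc⟩ := IsCyclic.exists_generator (α := A)
  have hAc : ∀ a ∈ A, ∃ k : ℤ, (c : R) ^ k = a := by
    intro a ha
    obtain ⟨k, hk⟩ := hc ⟨a, ha⟩
    refine ⟨k, ?_⟩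
    have := congrArg Subtype.val hk
    simpa using this
  by_cases hcA : β c ∈ A
  · left
    have h1 : ∀ x ∈ A, β x ∈ A := by
      intro x hx
      obtain ⟨k, rfl⟩ := hAc x hx
      rw [map_zpow]
      exact A.zpow_mem hcA k
    have h2 : ∀ x ∈ A, β.symm x ∈ A := by
      intro x hx
      let f : A → A := fun a => ⟨β a, h1 a a.2⟩
      have hf : Function.Injective f := by
        intro a b hab
        have := congrArg Subtype.val hab
        exact Subtype.ext (β.injective this)
      obtain ⟨a, ha⟩ := (Finite.injective_iff_surjective.1 hf) ⟨x, hx⟩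
      have hax : β a = x := congrArg Subtype.val ha
      rw [← hax, MulEquiv.symm_apply_apply]
      exact a.2
    have h3 := aut_eq_one_of_cyclic_two (hR.to_subgroup A) (restrictAut β A h1 h2)
      (Nat.Coprime.coprime_dvd_left (orderOf_restrictAut_dvd β A h1 h2) hβ)
    have hfix : ∀ a ∈ A, β a = a := by
      intro a ha
      have := congrArg (fun f : MulAut A => ((f ⟨a, ha⟩ : A) : R)) h3
      simpa using this
    ext x
    rw [MulAut.one_apply]
    by_cases hx : x ∈ A
    · exact hfix x hx
    · apply aut_fixes_of_coprime hR β hβ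
      apply hfix
      have hi : A.index = 2 := by
        rcases hidx with h | h
        · exact absurd (h.ge (Subgroup.mem_top x)) hx
        · exact h
      have hβx : β x ∉ A := by
        intro h
        have := h2 _ h
        rw [MulEquiv.symm_apply_apply] at this
        exact hx this
      have hxi : x⁻¹ ∉ A := fun h => hx (by simpa using A.inv_mem h)
      exact (Subgroup.mul_mem_iff_of_index_two hi).2 ⟨fun h => absurd h hxi, fun h => absurd h hβx⟩
  · right
    have hsq : (c : R) * c = 1 := by
      have := hinv _ hcA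
      rw [← map_mul] at this
      exact (map_eq_one_iff β β.injective).1 this
    have hAsq : ∀ a : A, a ^ 2 = 1 := by
      intro a
      obtain ⟨k, hk⟩ := hAc a a.2
      apply Subtype.ext
      have : ((a : R)) ^ 2 = 1 := by
        rw [← hk, ← zpow_natCast, ← zpow_mul, mul_comm, zpow_mul, zpow_natCast, pow_two, hsq, one_zpow]
      simpa using this
    have hA2 : Nat.card A ≤ 2 := card_le_two_of_cyclic_of_sq hAsq
    have hi : A.index = 2 := by
      rcases hidx with h | h
      · exact absurd (h.ge (Subgroup.mem_top _)) hcA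
      · exact h
    have hc1 : (c : R) ≠ 1 := by
      intro h
      rw [h, map_one] at hcA
      exact hcA A.one_mem
    have hA2' : Nat.card A = 2 := by
      have : 1 < Nat.card A := by
        rw [Subgroup.one_lt_card_iff_ne_bot]
        intro hb
        have h0 : (c : R) ∈ (⊥ : Subgroup R) := hb.le c.2
        exact hc1 (Subgroup.mem_bot.1 h0)
      omega
    have hsqR : ∀ x : R, x ^ 2 = 1 := by
      intro x
      by_cases hx : x ∈ A
      · have := congrArg Subtype.val (hAsq ⟨x, hx⟩)
        simpa using this
      · rw [pow_two]; exact hinv x hx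
    refine ⟨?_, ?_⟩
    · rw [← A.card_mul_index, hA2', hi]
    · have h1 : Monoid.exponent R ∣ 2 := Monoid.exponent_dvd_of_forall_pow_eq_one hsqR
      rcases (Nat.dvd_prime Nat.prime_two).1 h1 with h | h
      · exfalso
        have := Monoid.pow_exponent_eq_one (c : R)
        rw [h, pow_one] at this
        exact hc1 this
      · exact h

end Cfsg.Agent.Lib.Helper11
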