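import Mathlib
import Cfsg.Agent.Lib.Helper11.TwoComplement
import Cfsg.Agent.Lib.Helper11.Four
import Cfsg.Agent.Lib.Helper11.NPC

set_option autoImplicit false

namespace Cfsg.Agent.Lib.Helper11

/-- Ambient description of a dihedral `2`-subgroup `S ≃* D_m` (`m ≥ 2`): a cyclic subgroup `Q` of
index two containing an involution `z`, all elements of `S` outside `Q` square to one and invert
`Q`. -/
theorem dih_data {X : Type*} [Group X] [Finite X] (S : Subgroup X) (hS2 : IsPGroup 2 S) (m : ℕ)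
    (hm : 2 ≤ m) (eS : S ≃* DihedralGroup m) :
    ∃ (Q : Subgroup X) (z : X), Q ≤ S ∧ IsCyclic Q ∧ Q.relIndex S = 2 ∧ z ∈ Q ∧ orderOf z = 2 ∧
      ∀ x ∈ S, x ∉ Q → x * x = 1 ∧ ∀ a ∈ Q, x * a * x⁻¹ = a⁻¹ := by
  obtain ⟨A, hAc, hidx, hinv⟩ := dihedral_structure eS.toMonoidHom eS.injective
  have : NeZero m := ⟨by omega⟩
  have hAtop : A ≠ ⊤ := by
    intro htop
    have hcyc : IsCyclic S := by
      have : IsCyclic (⊤ : Subgroup S) := htop ▸ hAc
      exact isCyclic_of_surjective (Subgroup.topEquiv : (⊤ : Subgroup S) ≃* S)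
        Subgroup.topEquiv.surjective
    have hcyc' : IsCyclic (DihedralGroup m) := isCyclic_of_surjective eS eS.surjective
    have h1 : (DihedralGroup.sr 0 : DihedralGroup m) = DihedralGroup.sr 1 :=
      eq_of_orderOf_two_of_cyclic (DihedralGroup.orderOf_sr 0) (DihedralGroup.orderOf_sr 1)
    have h2 : (0 : ZMod m) = 1 := by
      injection h1
    have : Fact (1 < m) := ⟨by omega⟩
    exact zero_ne_one h2
  have hi : A.index = 2 := hidx.resolve_left hAtop
  have hAcard : 2 ∣ Nat.card A := by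
    have h1 : Nat.card A * 2 = 2 * m := by
      have h0 := A.card_mul_index
      rw [hi, Nat.card_congr eS.toEquiv, DihedralGroup.nat_card] at h0
      exact h0
    have h2 : Nat.card A = m := by omega
    obtain ⟨k, hk⟩ := (IsPGroup.iff_card).1 (hS2.to_subgroup A)
    rcases Nat.eq_zero_or_pos k with rfl | hpos
    · rw [pow_zero] at hk; omega
    · rw [hk]; exact dvd_pow_self 2 hpos.ne'
  obtain ⟨z, hz⟩ := exists_prime_orderOf_dvd_card' 2 hAcard
  have hsub : (A.map S.subtype).subgroupOf S = A :=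
    Subgroup.comap_map_eq_self_of_injective S.subtype_injective A
  refine ⟨A.map S.subtype, ((z : S) : X), Subgroup.map_subtype_le _, ?_, ?_, ⟨z, z.2, rfl⟩, ?_, ?_⟩
  · exact isCyclic_of_surjective (A.equivMapOfInjective S.subtype S.subtype_injective)
      (A.equivMapOfInjective S.subtype S.subtype_injective).surjective
  · rw [Subgroup.relIndex, hsub, hi]
  · rw [Subgroup.orderOf_coe, Subgroup.orderOf_coe, hz]
  · intro x hxS hxQ
    have hxA : (⟨x, hxS⟩ : S) ∉ A := fun h => hxQ ⟨_, h, rfl⟩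
    obtain ⟨h1, h2⟩ := hinv _ hxA
    refine ⟨congrArg Subtype.val h1, ?_⟩
    rintro _ ⟨a, ha, rfl⟩
    exact congrArg Subtype.val (h2 a ha)

section
variable {X : Type*} [Group X] [Finite X]

omit [Finite X] in
theorem orderOf_two_iff {x : X} : orderOf x = 2 ↔ x * x = 1 ∧ x ≠ 1 := by
  rw [orderOf_eq_iff (by norm_num)]
  constructor
  · rintro ⟨h1, h2⟩
    refine ⟨by rw [← pow_two]; exact h1, ?_⟩
    intro h
    exact h2 1 (by norm_num) (by norm_num) (by rw [h]; simp)
  · rintro ⟨h1, h2⟩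
    refine ⟨by rw [pow_two]; exact h1, ?_⟩
    intro k hk hk0
    have : k = 1 := by omega
    rw [this, pow_one]; exact h2

/-- the unique involution of a cyclic subgroup -/
theorem eq_of_orderOf_two_of_mem_cyclic (Q : Subgroup X) [IsCyclic Q] {a b : X} (ha : a ∈ Q)
    (hb : b ∈ Q) (ha2 : orderOf a = 2) (hb2 : orderOf b = 2) : a = b := by
  have : (⟨a, ha⟩ : Q) = ⟨b, hb⟩ := by
    apply eq_of_orderOf_two_of_cyclic
    · rw [Subgroup.orderOf_mk]; exact ha2
    · rw [Subgroup.orderOf_mk]; exact hb2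
  exact congrArg Subtype.val this

/-- If `3` divides `|N(U) : C(U)|` for the four-group `U = {1, z, u, zu}`, then `z` and `u` are
conjugate. -/
theorem isConj_of_three_dvd (z u : X) (hzu : z * u = u * z) (hz : z * z = 1) (hu : u * u = 1)
    (hz1 : z ≠ 1) (hu1 : u ≠ 1) (hne : z ≠ u)
    (h3 : 3 ∣ (Subgroup.centralizer ((fourSub z u hzu hz hu : Subgroup X) : Set X)).relIndex
      (Subgroup.normalizer ((fourSub z u hzu hz hu : Subgroup X) : Set X))) : IsConj z u := by
  set U := fourSub z u hzu hz hu with hU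
  have h1 : 3 ∣ Nat.card U.normalizerMonoidHom.range := by
    rw [← Subgroup.index_ker, Subgroup.normalizerMonoidHom_ker]
    exact h3
  have : Fact (Nat.Prime 3) := ⟨Nat.prime_three⟩
  obtain ⟨β', hβ'⟩ := exists_prime_orderOf_dvd_card' 3 h1
  obtain ⟨β, hβmem⟩ := β'
  rw [Subgroup.orderOf_mk] at hβ'
  have hβ : orderOf β = 3 := hβ'
  obtain ⟨⟨g, hg⟩, hgβ⟩ := hβmem
  have hzU : z ∈ U := by rw [hU, mem_fourSub]; tauto
  have huU : u ∈ U := by rw [hU, mem_fourSub]; tauto
  -- the conjugation map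
  have hgU : ∀ x ∈ U, g * x * g⁻¹ ∈ U := fun x hx => (Subgroup.mem_normalizer_iff.1 hg x).1 hx
  have hβapp : ∀ (x : X) (hx : x ∈ U), ((β ⟨x, hx⟩ : U) : X) = g * x * g⁻¹ := by
    intro x hx
    rw [← hgβ]; rfl
  have hβ1 : β ≠ 1 := by
    intro h
    rw [h, orderOf_one] at hβ
    omega
  have hβ3 : β ^ 3 = 1 := by rw [← hβ]; exact pow_orderOf_eq_one β
  -- if conjugation by `g` squares to the identity on `z` and `u` we get a contradiction
  have hcontra : g * (g * z * g⁻¹) * g⁻¹ = z → g * (g * u * g⁻¹) * g⁻¹ = u → False := by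
    intro e1 e2
    have hsq : β ^ 2 = 1 := by
      ext ⟨x, hx⟩
      have hx' := hx
      rw [hU, mem_fourSub] at hx'
      have e0 : (((β ^ 2) ⟨x, hx⟩ : U) : X) = g * (g * x * g⁻¹) * g⁻¹ := by
        have : (β ^ 2) ⟨x, hx⟩ = β (β ⟨x, hx⟩) := by rw [pow_two]; rfl
        rw [this]
        have h5 : β ⟨x, hx⟩ = ⟨g * x * g⁻¹, hgU x hx⟩ := Subtype.ext (hβapp x hx)
        rw [h5, hβapp]
      rw [e0, MulAut.one_apply]
      rcases hx' with rfl | rfl | rfl | rfl
      · group
      · exact e1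
      · exact e2
      · have : g * (g * (z * u) * g⁻¹) * g⁻¹
            = (g * (g * z * g⁻¹) * g⁻¹) * (g * (g * u * g⁻¹) * g⁻¹) := by group
        rw [this, e1, e2]
    apply hβ1
    calc β = β ^ 3 * (β ^ 2)⁻¹ := by group
      _ = 1 := by rw [hβ3, hsq]; simp
  have hinj : ∀ x y : X, g * x * g⁻¹ = g * y * g⁻¹ → x = y := by
    intro x y h
    simpa using h
  have hz' := hgU z hzU
  have hu' := hgU u huU
  rw [hU, mem_fourSub] at hz' hu'
  have hgz1 : g * z * g⁻¹ ≠ 1 := by
    intro h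
    apply hz1
    apply hinj
    rw [h]; group
  have hgu1 : g * u * g⁻¹ ≠ 1 := by
    intro h
    apply hu1
    apply hinj
    rw [h]; group
  have hgne : g * z * g⁻¹ ≠ g * u * g⁻¹ := fun h => hne (hinj _ _ h)
  have hzzu : z * (z * u) = u := by rw [← mul_assoc, hz, one_mul]
  have hzuu : z * u * u = z := by rw [mul_assoc, hu, mul_one]
  have hmul : g * (z * u) * g⁻¹ = (g * z * g⁻¹) * (g * u * g⁻¹) := by group
  rcases hz' with h | h | h | h
  · exact absurd h hgz1
  · -- `g` fixes `z`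
    exfalso
    rcases hu' with h' | h' | h' | h'
    · exact hgu1 h'
    · exact hgne (h.trans h'.symm)
    · exact hcontra (by rw [h, h]) (by rw [h', h'])
    · exact hcontra (by rw [h, h]) (by rw [h', hmul, h, h', hzzu])
  · exact isConj_iff.2 ⟨g, h⟩
  · rcases hu' with h' | h' | h' | h'
    · exact absurd h' hgu1
    · exact (isConj_iff.2 ⟨g, h'⟩).symm
    · exfalso
      exact hcontra (by rw [h, hmul, h, h', hzuu]) (by rw [h', h'])
    · exact absurd (h.trans h'.symm) hgne

end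

end Cfsg.Agent.Lib.Helper11
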