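import Mathlib

set_option autoImplicit false

/-!
Counting by Kronecker substitution: the number of points `z` of a finite product set with
`∑ i, φ i (z i) = m` is a base-`B` digit of the natural number `∏ i, ∑ t ∈ S i, B ^ φ i t`.
-/

namespace Cfsg.Agent.Lib.Helper11

theorem low_sum_lt {α : Type*} [DecidableEq α] (T : Finset α) (n : α → ℕ) (B : ℕ) (hB : T.card < B) (m : ℕ) :
    ∑ z ∈ T.filter (fun z => n z < m), B ^ n z < B ^ m := by
  induction m with
  | zero => simp
  | succ m ih =>
    have hsplit : T.filter (fun z => n z < m + 1) =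
        T.filter (fun z => n z < m) ∪ T.filter (fun z => n z = m) := by
      ext z
      simp only [Finset.mem_filter, Finset.mem_union]
      constructor
      · rintro ⟨h1, h2⟩
        rcases Nat.lt_or_ge (n z) m with h | h
        · exact Or.inl ⟨h1, h⟩
        · exact Or.inr ⟨h1, by omega⟩
      · rintro (⟨h1, h2⟩ | ⟨h1, h2⟩)
        · exact ⟨h1, by omega⟩
        · exact ⟨h1, by omega⟩
    have hdisj : Disjoint (T.filter (fun z => n z < m)) (T.filter (fun z => n z = m)) := by
      rw [Finset.disjoint_left]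
      intro z h1 h2
      simp only [Finset.mem_filter] at h1 h2
      omega
    rw [hsplit, Finset.sum_union hdisj]
    have h2 : ∑ z ∈ T.filter (fun z => n z = m), B ^ n z =
        (T.filter (fun z => n z = m)).card * B ^ m := by
      rw [Finset.sum_congr rfl (g := fun _ => B ^ m)
        (fun z hz => by rw [(Finset.mem_filter.1 hz).2])]
      rw [Finset.sum_const, smul_eq_mul]
    have h3 : (T.filter (fun z => n z = m)).card ≤ B - 1 := by
      have := Finset.card_filter_le T (fun z => n z = m)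
      omega
    have h4 : (T.filter (fun z => n z = m)).card * B ^ m ≤ (B - 1) * B ^ m :=
      Nat.mul_le_mul_right _ h3
    have h5 : (B - 1) * B ^ m + B ^ m = B ^ (m + 1) := by
      obtain ⟨b, rfl⟩ : ∃ b, B = b + 1 := ⟨B - 1, by omega⟩
      simp only [Nat.add_sub_cancel]
      ring
    rw [h2]
    omega

theorem digit_sum {α : Type*} [DecidableEq α] (T : Finset α) (n : α → ℕ) (B : ℕ) (hB : T.card < B) (m : ℕ) :
    (∑ z ∈ T, B ^ n z) / B ^ m % B = (T.filter (fun z => n z = m)).card := by
  have hBpos : 0 < B := by omega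
  have hlow := low_sum_lt T n B hB m
  have h1 : ∑ z ∈ T, B ^ n z = ∑ z ∈ T.filter (fun z => n z < m), B ^ n z +
      ∑ z ∈ T.filter (fun z => ¬ n z < m), B ^ n z :=
    (Finset.sum_filter_add_sum_filter_not T _ _).symm
  have h2 : ∑ z ∈ T.filter (fun z => ¬ n z < m), B ^ n z =
      ∑ z ∈ (T.filter (fun z => ¬ n z < m)).filter (fun z => n z = m), B ^ n z +
      ∑ z ∈ (T.filter (fun z => ¬ n z < m)).filter (fun z => ¬ n z = m), B ^ n z :=
    (Finset.sum_filter_add_sum_filter_not _ _ _).symm
  have h3 : (T.filter (fun z => ¬ n z < m)).filter (fun z => n z = m) =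
      T.filter (fun z => n z = m) := by
    ext z
    simp only [Finset.mem_filter]
    constructor
    · rintro ⟨⟨a, _⟩, c⟩; exact ⟨a, c⟩
    · rintro ⟨a, c⟩; exact ⟨⟨a, by omega⟩, c⟩
  have h4 : ∑ z ∈ T.filter (fun z => n z = m), B ^ n z =
      (T.filter (fun z => n z = m)).card * B ^ m := by
    rw [Finset.sum_congr rfl (g := fun _ => B ^ m)
      (fun z hz => by rw [(Finset.mem_filter.1 hz).2])]
    rw [Finset.sum_const, smul_eq_mul]
  have h5 : B ^ (m + 1) ∣
      ∑ z ∈ (T.filter (fun z => ¬ n z < m)).filter (fun z => ¬ n z = m), B ^ n z := by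
    apply Finset.dvd_sum
    intro z hz
    simp only [Finset.mem_filter] at hz
    exact pow_dvd_pow B (by omega)
  obtain ⟨H, hH⟩ := h5
  rw [h1, h2, h3, h4, hH]
  have h6 : ∑ z ∈ T.filter (fun z => n z < m), B ^ n z +
      ((T.filter (fun z => n z = m)).card * B ^ m + B ^ (m + 1) * H) =
      ∑ z ∈ T.filter (fun z => n z < m), B ^ n z +
      B ^ m * ((T.filter (fun z => n z = m)).card + B * H) := by ring
  rw [h6, Nat.add_mul_div_left _ _ (pow_pos hBpos m), Nat.div_eq_of_lt hlow, zero_add,
    Nat.add_mul_mod_self_left, Nat.mod_eq_of_lt]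
  exact lt_of_le_of_lt (Finset.card_filter_le _ _) hB

theorem kron_count {ι : Type*} [Fintype ι] [DecidableEq ι] (S : ι → Finset ℤ) (φ : ι → ℤ → ℕ)
    (B : ℕ) (hB : ∏ i, (S i).card < B) (m : ℕ) :
    ((Fintype.piFinset S).filter (fun z => ∑ i, φ i (z i) = m)).card =
      (∏ i, ∑ t ∈ S i, B ^ φ i t) / B ^ m % B := by
  rw [Finset.prod_univ_sum]
  have : ∀ z ∈ Fintype.piFinset S, ∏ i, B ^ φ i (z i) = B ^ ∑ i, φ i (z i) := by
    intro z _
    rw [Finset.prod_pow_eq_pow_sum]
  rw [Finset.sum_congr rfl this, digit_sum _ _ _ (by rwa [Fintype.card_piFinset])]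

end Cfsg.Agent.Lib.Helper11
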