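import Cfsg.Agent.Lib.Helper11.Kron
import Cfsg.Agent.Lib.Helper9.Leech2
import Cfsg.Agent.Lib.Helper9.GolayFacts

set_option autoImplicit false

/-!
Counting vectors of the rank-24 lattice with prescribed sum of squares and prescribed set of allowed
coordinate values, by Kronecker substitution, codeword by codeword.
-/

namespace Cfsg.Agent.Lib.Helper11

open Cfsg Cfsg.Agent.Lib.Helper9 Cfsg.Agent.Lib.Helper10

/-- the bit of weight 4 of an integer -/
def hi8 (t : ℤ) : ℕ := if 4 ≤ t % 8 then 1 else 0

/-- the word formed by the bits of weight 2 of the coordinates -/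
def cwd (x : GolayPt → ℤ) : GolayPt → ZMod 2 := fun i => if 2 ≤ x i % 4 then 1 else 0

theorem red2_half (x : GolayPt → ℤ) (e : ℤ) (he : e = 0 ∨ e = 1) (h : ∀ i, x i % 2 = e) :
    red2 (fun i => (x i - e) / 2) = cwd x := by
  funext i
  have := h i
  by_cases h2 : 2 ≤ x i % 4
  · simp only [cwd, if_pos h2]
    have : red2 (fun i => (x i - e) / 2) i ≠ 0 := (red2_ne_zero_iff _ i).2 (by omega)
    exact (zmod2_ne_zero_iff _).1 this
  · simp only [cwd, if_neg h2]
    by_contra hne
    have := (red2_ne_zero_iff _ i).1 hne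
    omega

theorem sum_half (x : GolayPt → ℤ) (e : ℤ) (he : e = 0 ∨ e = 1) (h : ∀ i, x i % 2 = e) :
    ∃ Q : ℤ, ∑ i, (x i - e) / 2 =
      ((support₂ (cwd x)).card : ℤ) + 2 * ((∑ i, hi8 (x i) : ℕ) : ℤ) + 4 * Q := by
  refine ⟨∑ i, x i / 8, ?_⟩
  rw [support₂, Finset.card_filter]
  push_cast
  rw [Finset.mul_sum, Finset.mul_sum, ← Finset.sum_add_distrib, ← Finset.sum_add_distrib]
  apply Finset.sum_congr rfl
  intro i _
  have := h i
  by_cases h2 : 2 ≤ x i % 4
  · have hc : cwd x i ≠ 0 := by simp [cwd, if_pos h2]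
    rw [if_pos hc]
    unfold hi8
    split_ifs <;> push_cast <;> omega
  · have hc : ¬ cwd x i ≠ 0 := by simp [cwd, if_neg h2]
    rw [if_neg hc]
    unfold hi8
    split_ifs <;> push_cast <;> omega

theorem mem_leech_iff (x : GolayPt → ℤ) : x ∈ leechLattice ↔
    ∃ e : ℕ, e < 2 ∧ (∀ i, x i % 2 = e) ∧ cwd x ∈ golayCode ∧ (∑ i, hi8 (x i)) % 2 = e := by
  rw [mem_leechLattice_iff_mem_leechSet, mem_leechSet_iff']
  constructor
  · rintro ⟨e, z, he, h1, h2, h3⟩
    have hpar : ∀ i, x i % 2 = e := fun i => by rw [h1 i]; omega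
    have hz : z = fun i => (x i - e) / 2 := by
      funext i
      rw [h1 i]; omega
    obtain ⟨Q, hQ⟩ := sum_half x e he hpar
    have hc := red2_half x e he hpar
    rw [← hz] at hc hQ
    rw [hc] at h3
    obtain ⟨a, ha⟩ := golay_doubly_even_word _ h3
    refine ⟨e.toNat, by omega, fun i => by rw [hpar i]; omega, h3, ?_⟩
    rw [ha] at hQ
    push_cast at hQ
    have hQ' : ∑ i, z i = 4 * (a : ℤ) + 2 * ∑ i, (hi8 (x i) : ℤ) + 4 * Q := hQ
    have : ((∑ i, hi8 (x i) : ℕ) : ℤ) % 2 = e := by push_cast; omega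
    omega
  · rintro ⟨e, he, hpar, h3, h4⟩
    have he' : (e : ℤ) = 0 ∨ (e : ℤ) = 1 := by omega
    obtain ⟨Q, hQ⟩ := sum_half x e he' hpar
    have hc := red2_half x e he' hpar
    obtain ⟨a, ha⟩ := golay_doubly_even_word _ h3
    refine ⟨e, fun i => (x i - e) / 2, he', fun i => ?_, ?_, by rw [hc]; exact h3⟩
    · have := hpar i
      show x i = e + 2 * ((x i - e) / 2)
      omega
    rw [hQ, ha]
    push_cast
    have : ((∑ i, hi8 (x i) : ℕ) : ℤ) % 2 = e := by omega
    push_cast at this
    omega

/-- the statistic: bit of weight 4 in the low digits, the square in the high ones -/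
def stat (t : ℤ) : ℕ := hi8 t + 32 * t.natAbs ^ 2

/-- generating number of the allowed values in a residue class modulo 4 -/
def Qs (V : Finset ℤ) (B : ℕ) (r : ℤ) : ℕ := ∑ t ∈ V.filter (fun t => t % 4 = r), B ^ stat t

/-- allowed values at the coordinate `i` -/
def Sset (V : Finset ℤ) (e : ℤ) (w : GolayPt → ZMod 2) (i : GolayPt) : Finset ℤ :=
  V.filter (fun t => t % 4 = if w i = 0 then e else e + 2)

theorem prod_Sset (V : Finset ℤ) (B : ℕ) (e : ℤ) (w : GolayPt → ZMod 2) :
    ∏ i, ∑ t ∈ Sset V e w i, B ^ stat t =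
      Qs V B (e + 2) ^ (support₂ w).card * Qs V B e ^ (24 - (support₂ w).card) := by
  have h1 : ∀ i, ∑ t ∈ Sset V e w i, B ^ stat t =
      if w i ≠ 0 then Qs V B (e + 2) else Qs V B e := by
    intro i
    unfold Sset Qs
    by_cases h : w i = 0
    · simp [h]
    · simp [h]
  simp only [h1]
  rw [Finset.prod_ite, Finset.prod_const, Finset.prod_const]
  have h2 : (Finset.univ.filter fun i => ¬ w i ≠ 0).card = 24 - (support₂ w).card := by
    have := Finset.card_filter_add_card_filter_not (s := (Finset.univ : Finset GolayPt))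
      (fun i => w i ≠ 0)
    rw [Finset.card_univ, card_golayPt] at this
    unfold support₂
    omega
  rw [h2]
  rfl

theorem sum_stat (x : GolayPt → ℤ) :
    ((∑ i, stat (x i) : ℕ) : ℤ) = ((∑ i, hi8 (x i) : ℕ) : ℤ) + 32 * sqNorm x := by
  unfold stat sqNorm
  push_cast
  rw [Finset.sum_add_distrib, Finset.mul_sum]
  congr 1
  apply Finset.sum_congr rfl
  intro i _
  rw [sq_abs]

theorem sum_hi8_le (x : GolayPt → ℤ) : ∑ i, hi8 (x i) ≤ 24 := by
  have : ∑ i, hi8 (x i) ≤ ∑ _i : GolayPt, 1 := by
    apply Finset.sum_le_sum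
    intro i _
    unfold hi8
    split_ifs <;> omega
  rw [Finset.sum_const, Finset.card_univ, card_golayPt] at this
  simpa using this

/-- the number of lattice vectors over one codeword of weight `n`, of parity `e` -/
def cntW (V : Finset ℤ) (B N e n : ℕ) : ℕ :=
  ∑ m ∈ (Finset.range 25).filter (fun m => m % 2 = e),
    (Qs V B ((e : ℤ) + 2) ^ n * Qs V B e ^ (24 - n)) / B ^ (m + 32 * N) % B

theorem card_fiber (V : Finset ℤ) (B N e : ℕ) (he : e < 2) (w : GolayPt → ZMod 2)
    (hB : V.card ^ 24 < B) :
    ((Fintype.piFinset (fun _ : GolayPt => V)).filter (fun x : GolayPt → ℤ => (∀ i, x i % 2 = (e : ℤ)) ∧ cwd x = w ∧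
      (∑ i, hi8 (x i)) % 2 = e ∧ sqNorm x = N)).card = cntW V B N e (support₂ w).card := by
  classical
  rw [Finset.card_eq_sum_card_fiberwise (f := fun x => ∑ i, hi8 (x i))
    (t := (Finset.range 25).filter (fun m => m % 2 = e))]
  · unfold cntW
    apply Finset.sum_congr rfl
    intro m hm
    have hB' : ∏ i, (Sset V e w i).card < B := by
      calc ∏ i, (Sset V e w i).card ≤ ∏ _i : GolayPt, V.card := by
            apply Finset.prod_le_prod'
            intro i _
            exact Finset.card_filter_le _ _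
        _ = V.card ^ 24 := by rw [Finset.prod_const, Finset.card_univ, card_golayPt]
        _ < B := hB
    have key := kron_count (Sset V e w) (fun _ => stat) B hB' (m + 32 * N)
    rw [prod_Sset] at key
    rw [← key]
    · refine congrArg Finset.card (Finset.ext fun x => ?_)
      simp only [Finset.mem_filter, Fintype.mem_piFinset, Sset]
      constructor
      · rintro ⟨⟨hV, hpar, hw, h2, hN⟩, hm'⟩
        refine ⟨fun i => ⟨hV i, ?_⟩, ?_⟩
        · have h3 := hpar i
          have h4 : cwd x i = w i := by rw [hw]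
          by_cases h5 : 2 ≤ x i % 4
          · have : w i ≠ 0 := by rw [← h4]; simp [cwd, if_pos h5]
            rw [if_neg this]; omega
          · have : w i = 0 := by rw [← h4]; simp [cwd, if_neg h5]
            rw [if_pos this]; omega
        · have := sum_stat x
          rw [hN, hm'] at this
          exact_mod_cast this
      · rintro ⟨h1, h2⟩
        have h3 := sum_stat x
        rw [h2] at h3
        have h4 := sum_hi8_le x
        have hm1 : m < 25 := by
          have := (Finset.mem_filter.1 hm).1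
          simpa using this
        have hm2 : m % 2 = e := (Finset.mem_filter.1 hm).2
        have h5 : ∑ i, hi8 (x i) = m ∧ sqNorm x = N := by
          generalize ∑ i, hi8 (x i) = H at h3 h4
          generalize sqNorm x = s at h3
          push_cast at h3
          constructor <;> omega
        have h6 : ∑ i, hi8 (x i) = m := h5.1
        refine ⟨⟨fun i => (h1 i).1, fun i => ?_, ?_, by rw [h6]; exact hm2, h5.2⟩, h6⟩
        · have := (h1 i).2
          split_ifs at this <;> omega
        · funext i
          have := (h1 i).2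
          by_cases h7 : w i = 0
          · rw [if_pos h7] at this
            rw [h7]
            simp only [cwd]
            rw [if_neg (by omega)]
          · rw [if_neg h7] at this
            rw [(zmod2_ne_zero_iff _).1 h7]
            simp only [cwd]
            rw [if_pos (by omega)]
  · intro x hx
    simp only [Finset.coe_filter, Set.mem_ofPred_eq, Finset.mem_range] at hx ⊢
    have := sum_hi8_le x
    exact ⟨by omega, hx.2.2.2.1⟩

theorem count0 : countLt (fun k => popc 24 (cw k) == 0) 4096 0 = 1 := by decide +kernel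
theorem count24 : countLt (fun k => popc 24 (cw k) == 24) 4096 0 = 1 := by decide +kernel

theorem card_weight (n : ℕ) : ((Finset.range 4096).filter (fun k => popc 24 (cw k) = n)).card =
    countLt (fun k => popc 24 (cw k) == n) 4096 0 := by
  rw [countLt_spec, zero_add]
  refine congrArg Finset.card (Finset.ext fun k => ?_)
  simp

/-- summation over the code by the weight distribution -/
theorem sum_weights (g : ℕ → ℕ) : ∑ k ∈ Finset.range 4096, g (popc 24 (cw k)) =
    g 0 + 759 * g 8 + 2576 * g 12 + 759 * g 16 + g 24 := by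
  have hmaps : ∀ k ∈ Finset.range 4096, popc 24 (cw k) ∈ ({0, 8, 12, 16, 24} : Finset ℕ) := by
    intro k hk
    have := card_ofMask_cw k (by simpa using hk)
    rw [card_ofMask] at this
    simp only [Finset.mem_insert, Finset.mem_singleton]
    exact this
  rw [← Finset.sum_fiberwise_of_maps_to hmaps]
  have hin : ∀ n, ∑ k ∈ (Finset.range 4096).filter (fun k => popc 24 (cw k) = n),
      g (popc 24 (cw k)) = countLt (fun k => popc 24 (cw k) == n) 4096 0 * g n := by
    intro n
    rw [Finset.sum_congr rfl (g := fun _ => g n)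
      (fun k hk => by rw [(Finset.mem_filter.1 hk).2]), Finset.sum_const, smul_eq_mul, card_weight]
  simp only [hin]
  rw [Finset.sum_insert (by decide), Finset.sum_insert (by decide), Finset.sum_insert (by decide),
    Finset.sum_insert (by decide), Finset.sum_singleton, count0, count8, count12, count16, count24]
  ring

/-- the code as a finite set -/
noncomputable def Cfin : Finset (GolayPt → ZMod 2) :=
  (Finset.range 4096).image (fun k => wordOf (cw k))

theorem mem_Cfin (w : GolayPt → ZMod 2) : w ∈ Cfin ↔ w ∈ golayCode := by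
  have h : w ∈ golayCode ↔ w ∈ (golayCode : Set (GolayPt → ZMod 2)) := Iff.rfl
  rw [h, golayCode_coe_eq]
  simp [Cfin]

theorem sum_Cfin (g : ℕ → ℕ) : ∑ w ∈ Cfin, g (support₂ w).card =
    g 0 + 759 * g 8 + 2576 * g 12 + 759 * g 16 + g 24 := by
  rw [← sum_weights, Cfin, Finset.sum_image (fun a ha b hb h => wordOf_cw_injOn ha hb h)]
  apply Finset.sum_congr rfl
  intro k _
  rw [support₂_wordOf, card_ofMask]

/-- total over the code -/
def cntE (V : Finset ℤ) (B N e : ℕ) : ℕ :=
  cntW V B N e 0 + 759 * cntW V B N e 8 + 2576 * cntW V B N e 12 + 759 * cntW V B N e 16 +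
    cntW V B N e 24

theorem card_parity (V : Finset ℤ) (B N e : ℕ) (he : e < 2) (hB : V.card ^ 24 < B) :
    ((Fintype.piFinset (fun _ : GolayPt => V)).filter (fun x : GolayPt → ℤ =>
      (∀ i, x i % 2 = (e : ℤ)) ∧ cwd x ∈ golayCode ∧
      (∑ i, hi8 (x i)) % 2 = e ∧ sqNorm x = N)).card = cntE V B N e := by
  classical
  rw [Finset.card_eq_sum_card_fiberwise (f := cwd) (t := Cfin)]
  · rw [cntE, ← sum_Cfin (fun n => cntW V B N e n)]
    apply Finset.sum_congr rfl
    intro w hw
    rw [← card_fiber V B N e he w hB]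
    refine congrArg Finset.card (Finset.ext fun x => ?_)
    simp only [Finset.mem_filter]
    constructor
    · rintro ⟨⟨h1, h2, h3, h4, h5⟩, h6⟩
      exact ⟨h1, h2, h6, h4, h5⟩
    · rintro ⟨h1, h2, h3, h4, h5⟩
      exact ⟨⟨h1, h2, by rw [h3]; exact (mem_Cfin w).1 hw, h4, h5⟩, h3⟩
  · intro x hx
    simp only [Finset.coe_filter, Set.mem_ofPred_eq] at hx
    exact (mem_Cfin _).2 hx.2.2.1

/-- The number of lattice vectors of sum of squares `N` with all coordinates in `V`. -/
theorem leech_ncard (V : Finset ℤ) (B N : ℕ) (hB : V.card ^ 24 < B) :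
    {x : GolayPt → ℤ | x ∈ leechLattice ∧ sqNorm x = N ∧ ∀ i, x i ∈ V}.ncard =
      cntE V B N 0 + cntE V B N 1 := by
  classical
  rw [← card_parity V B N 0 (by omega) hB, ← card_parity V B N 1 (by omega) hB,
    ← Finset.card_union_of_disjoint, ← Set.ncard_coe_finset]
  · congr 1
    ext x
    simp only [Set.mem_ofPred_eq, Finset.coe_union, Finset.coe_filter, Set.mem_union,
      Fintype.mem_piFinset, mem_leech_iff]
    constructor
    · rintro ⟨⟨e, he, h1, h2, h3⟩, h4, h5⟩
      obtain rfl | rfl : e = 0 ∨ e = 1 := by omega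
      · exact Or.inl ⟨h5, h1, h2, h3, h4⟩
      · exact Or.inr ⟨h5, h1, h2, h3, h4⟩
    · rintro (⟨h5, h1, h2, h3, h4⟩ | ⟨h5, h1, h2, h3, h4⟩)
      · exact ⟨⟨0, by omega, h1, h2, h3⟩, h4, h5⟩
      · exact ⟨⟨1, by omega, h1, h2, h3⟩, h4, h5⟩
  · rw [Finset.disjoint_left]
    intro x h1 h2
    simp only [Finset.mem_filter] at h1 h2
    have a := h1.2.1 none
    have b := h2.2.1 none
    rw [a] at b
    simp at b

end Cfsg.Agent.Lib.Helper11
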