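import Cfsg.Agent.Lib.Helper11.LeechCount
import Cfsg.Agent.Lib.Helper9.Monomial
import Cfsg.Agent.Lib.Helper9.M24Chain
import Cfsg.Agent.S5546

set_option autoImplicit false

/-!
The stabiliser of the standard cross in the automorphism group of the rank-24 lattice is the
monomial group of the code.
-/

namespace Cfsg.Agent.Lib.Helper11

open Cfsg Cfsg.Agent.Lib.Helper9 Cfsg.Agent.Lib.Helper10 Cfsg.Agent.S5546
open scoped Pointwise

/-- the property of preserving the standard cross -/
def FixCross (g : ↥Co0) : Prop :=
  ∀ v : ↥leechLattice, (v : GolayPt → ℤ) ∈ stdCross →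
    ((g • v : ↥leechLattice) : GolayPt → ℤ) ∈ stdCross

theorem E8_eq_single (i : GolayPt) : (E8 i).1 = Pi.single i 8 := by
  funext k
  rw [E8_apply, Pi.single_apply]

theorem E8_mem_stdCross (i : GolayPt) : (E8 i).1 ∈ stdCross :=
  ⟨i, 8, Or.inl rfl, E8_eq_single i⟩

/-- the additive map underlying an element of the group -/
def addHom (g : ↥Co0) : ↥leechLattice →+ ↥leechLattice :=
  AddMonoidHom.mk' (fun v => g • v) g.2.1

theorem addHom_apply (g : ↥Co0) (v : ↥leechLattice) : addHom g v = g • v := rfl

/-- the vector `2` on the support of a codeword -/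
def twoVec (w : GolayPt → ZMod 2) : GolayPt → ℤ := fun i => if w i = 0 then 0 else 2

theorem twoVec_mem {w : GolayPt → ZMod 2} (hw : w ∈ golayCode) : twoVec w ∈ leechLattice := by
  rw [mem_leech_iff]
  refine ⟨0, by norm_num, fun i => ?_, ?_, ?_⟩
  · unfold twoVec; split_ifs <;> rfl
  · have : cwd (twoVec w) = w := by
      funext i
      unfold cwd twoVec
      by_cases h : w i = 0
      · rw [if_pos h, h]; rfl
      · rw [if_neg h, (zmod2_ne_zero_iff _).1 h]; rfl
    rw [this]; exact hw
  · have : ∀ i, hi8 (twoVec w i) = 0 := by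
      intro i
      unfold hi8 twoVec
      split_ifs <;> first | rfl | omega
    simp [this]

/-- the vector `(-3, 1, ..., 1)` -/
def oddVec : GolayPt → ℤ := fun i => if i = none then -3 else 1

theorem oddVec_mem : oddVec ∈ leechLattice := by
  rw [mem_leech_iff]
  refine ⟨1, by norm_num, fun i => ?_, ?_, ?_⟩
  · unfold oddVec; split_ifs <;> rfl
  · have : cwd oddVec = 0 := by
      funext i
      unfold cwd oddVec
      split_ifs <;> first | rfl | omega
    rw [this]; exact golayCode.zero_mem
  · have : ∀ i, hi8 (oddVec i) = if i = none then 1 else 0 := by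
      intro i
      unfold hi8 oddVec
      by_cases h : i = none
      · rw [if_pos h, if_pos h]; rfl
      · rw [if_neg h, if_neg h]; rfl
    simp [this]

theorem fixCross_monomial (g : ↥Co0) (hg : FixCross g) :
    ∃ σ ∈ M24, ∃ c ∈ supports (golayCode : Set (GolayPt → ZMod 2)),
      ∀ v : ↥leechLattice, ((g • v : ↥leechLattice) : GolayPt → ℤ) = signedPerm σ c v := by
  classical
  have h1 : ∀ i, ∃ (j : GolayPt) (s : ℤ), (s = 8 ∨ s = -8) ∧
      ((g • E8 i : ↥leechLattice) : GolayPt → ℤ) = Pi.single j s := fun i => hg _ (E8_mem_stdCross i)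
  choose τ s hs hτ using h1
  have hinj : Function.Injective τ := by
    intro i j hij
    by_contra hne
    have hsij : s i = s j ∨ s i = - s j := by
      rcases hs i with h | h <;> rcases hs j with h' | h' <;> rw [h, h'] <;> norm_num
    rcases hsij with h | h
    · have : g • E8 i = g • E8 j := by
        apply Subtype.ext
        rw [hτ i, hτ j, hij, h]
      have h2 := congrArg (fun v : ↥leechLattice => v.1 i) (smul_left_cancel g this)
      simp only [E8_apply, if_true, if_neg hne] at h2
      norm_num at h2
    · have : g • E8 i = g • (- E8 j) := by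
        rw [← addHom_apply g (- E8 j), map_neg, addHom_apply]
        apply Subtype.ext
        rw [AddSubgroup.coe_neg, hτ i, hτ j, hij, h]
        funext k
        simp only [Pi.neg_apply, Pi.single_apply]
        split_ifs <;> simp
      have h2 := congrArg (fun v : ↥leechLattice => v.1 i) (smul_left_cancel g this)
      simp only [AddSubgroup.coe_neg, Pi.neg_apply, E8_apply, if_true, if_neg hne] at h2
      norm_num at h2
  let σ : Equiv.Perm GolayPt := Equiv.ofBijective τ (Finite.injective_iff_bijective.1 hinj)
  have hσ : ∀ i, σ i = τ i := fun i => rfl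
  let c : Finset GolayPt := Finset.univ.filter (fun k => s (σ.symm k) = -8)
  have hform : ∀ v : ↥leechLattice,
      ((g • v : ↥leechLattice) : GolayPt → ℤ) = signedPerm σ c v := by
    intro v
    have h2 := congrArg (addHom g) (eight_smul v)
    rw [map_zsmul, map_sum] at h2
    simp only [map_zsmul, addHom_apply] at h2
    funext k
    have h3 := congrArg (fun u : ↥leechLattice => u.1 k) h2
    have h4 : ((∑ i, (v.1 i) • (g • E8 i) : ↥leechLattice) : GolayPt → ℤ) =
        ∑ i, (v.1 i) • ((g • E8 i : ↥leechLattice) : GolayPt → ℤ) := by simp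
    simp only [h4] at h3
    simp only [AddSubgroup.coe_zsmul, Pi.smul_apply, Finset.sum_apply, hτ, Pi.single_apply,
      smul_eq_mul] at h3
    rw [Finset.sum_eq_single (σ.symm k)] at h3
    · rw [← hσ, Equiv.apply_symm_apply, if_pos rfl] at h3
      show (g • v).1 k = if k ∈ c then -v.1 (σ.symm k) else v.1 (σ.symm k)
      by_cases hk : k ∈ c
      · rw [if_pos hk]
        have : s (σ.symm k) = -8 := (Finset.mem_filter.1 hk).2
        rw [this] at h3
        omega
      · rw [if_neg hk]
        have : s (σ.symm k) = 8 := by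
          rcases hs (σ.symm k) with h | h
          · exact h
          · exact absurd (show k ∈ c from Finset.mem_filter.2 ⟨Finset.mem_univ _, h⟩) hk
        rw [this] at h3
        omega
    · intro i _ hi
      rw [if_neg, mul_zero]
      intro hk
      apply hi
      rw [hk, ← hσ, Equiv.symm_apply_apply]
    · intro h; exact absurd (Finset.mem_univ _) h
  refine ⟨σ, ?_, c, ?_, hform⟩
  · rw [← Subgroup.inv_mem_iff, mem_M24_iff]
    intro w hw
    have h2 := (g • (⟨twoVec w, twoVec_mem hw⟩ : ↥leechLattice)).2
    rw [mem_leech_iff] at h2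
    obtain ⟨e, -, -, h3, -⟩ := h2
    have h4 : cwd ((g • (⟨twoVec w, twoVec_mem hw⟩ : ↥leechLattice) : ↥leechLattice) :
        GolayPt → ℤ) = w ∘ (σ⁻¹ : Equiv.Perm GolayPt) := by
      rw [hform]
      funext k
      show (if 2 ≤ (if k ∈ c then -twoVec w (σ.symm k) else twoVec w (σ.symm k)) % 4
        then (1 : ZMod 2) else 0) = w (σ.symm k)
      unfold twoVec
      by_cases h : w (σ.symm k) = 0
      · rw [if_pos h, h]
        split_ifs <;> first | rfl | omega
      · rw [if_neg h, (zmod2_ne_zero_iff _).1 h]
        split_ifs <;> first | rfl | omega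
    rw [h4] at h3
    exact h3
  · rw [mem_supports_iff]
    have h2 := (g • (⟨oddVec, oddVec_mem⟩ : ↥leechLattice)).2
    rw [mem_leech_iff] at h2
    obtain ⟨e, -, -, h3, -⟩ := h2
    have h4 : cwd ((g • (⟨oddVec, oddVec_mem⟩ : ↥leechLattice) : ↥leechLattice) :
        GolayPt → ℤ) = ind c := by
      rw [hform]
      funext k
      show (if 2 ≤ (if k ∈ c then -oddVec (σ.symm k) else oddVec (σ.symm k)) % 4
        then (1 : ZMod 2) else 0) = if k ∈ c then 1 else 0
      unfold oddVec
      by_cases h : k ∈ c
      · rw [if_pos h, if_pos h]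
        split_ifs <;> first | rfl | omega
      · rw [if_neg h, if_neg h]
        split_ifs <;> first | rfl | omega
    rw [h4] at h3
    exact h3

theorem signedPerm_single (σ : Equiv.Perm GolayPt) (c : Finset GolayPt) (i : GolayPt) (s : ℤ) :
    signedPerm σ c (Pi.single i s) = Pi.single (σ i) (if σ i ∈ c then -s else s) := by
  funext k
  unfold signedPerm
  simp only [Pi.single_apply]
  by_cases h : k = σ i
  · subst h
    simp
  · have : σ.symm k ≠ i := fun h' => h (by rw [← h', Equiv.apply_symm_apply])
    simp [h, this]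

theorem monoEl_fixCross (σ : Equiv.Perm GolayPt) (hσ : σ ∈ M24) (c : Finset GolayPt)
    (hc : c ∈ supports (golayCode : Set (GolayPt → ZMod 2))) : FixCross (monoEl σ hσ c hc) := by
  rintro v ⟨i, s, hs, hv⟩
  rw [monoEl_apply, hv, signedPerm_single]
  refine ⟨σ i, _, ?_, rfl⟩
  split_ifs <;> omega

theorem card_fixCross : Nat.card {g : ↥Co0 // FixCross g} = 4096 * 244823040 := by
  classical
  let Φ : ↥golayCode × ↥M24 → {g : ↥Co0 // FixCross g} := fun p =>
    ⟨monoEl p.2.1 p.2.2 (support₂ p.1.1) ⟨p.1.1, p.1.2, rfl⟩, monoEl_fixCross _ _ _ _⟩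
  have hbij : Function.Bijective Φ := by
    constructor
    · rintro ⟨⟨w, hw⟩, ⟨σ, hσ⟩⟩ ⟨⟨w', hw'⟩, ⟨σ', hσ'⟩⟩ h
      have h1 : ∀ i, signedPerm σ (support₂ w) (Pi.single i 8) =
          signedPerm σ' (support₂ w') (Pi.single i 8) := by
        intro i
        have h2 : signedPerm σ (support₂ w) (E8 i).1 = signedPerm σ' (support₂ w') (E8 i).1 :=
          congrArg (fun g : {g : ↥Co0 // FixCross g} =>
            ((g.1 • E8 i : ↥leechLattice) : GolayPt → ℤ)) h
        rw [E8_eq_single] at h2
        exact h2
      have h3 : ∀ i, σ i = σ' i := by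
        intro i
        have h2 := congrFun (h1 i) (σ i)
        rw [signedPerm_single, signedPerm_single, Pi.single_eq_same, Pi.single_apply] at h2
        by_contra hne
        rw [if_neg hne] at h2
        split_ifs at h2 <;> omega
      have hσσ : σ = σ' := Equiv.ext h3
      subst hσσ
      have h4 : support₂ w = support₂ w' := by
        ext k
        have h2 := congrFun (h1 (σ.symm k)) k
        rw [signedPerm_single, signedPerm_single, Equiv.apply_symm_apply, Pi.single_eq_same,
          Pi.single_eq_same] at h2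
        by_cases a : k ∈ support₂ w <;> by_cases b : k ∈ support₂ w'
        · exact ⟨fun _ => b, fun _ => a⟩
        · rw [if_pos a, if_neg b] at h2; omega
        · rw [if_neg a, if_pos b] at h2; omega
        · exact ⟨fun h => absurd h a, fun h => absurd h b⟩
      have h5 : w = w' := by rw [← ind_support₂ w, h4, ind_support₂]
      subst h5
      rfl
    · rintro ⟨g, hg⟩
      obtain ⟨σ, hσ, c, ⟨w, hw, rfl⟩, hform⟩ := fixCross_monomial g hg
      refine ⟨⟨⟨w, hw⟩, ⟨σ, hσ⟩⟩, ?_⟩
      apply Subtype.ext
      apply Subtype.ext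
      apply Equiv.ext
      intro v
      apply Subtype.ext
      exact (hform v).symm
  rw [← Nat.card_congr (Equiv.ofBijective Φ hbij), Nat.card_prod, card_golayCode, card_M24]

end Cfsg.Agent.Lib.Helper11
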