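import Cfsg.Agent.Lib.Helper11.LeechCount
import Cfsg.Agent.S5592
import Cfsg.Prelude.Def_SporadicCombinatorics

set_option autoImplicit false

/-!
The classes of the rank-24 lattice modulo twice the lattice: every class contains a vector of sum of
squares at most 64, and the vectors of sum of squares 64 fall into classes of exactly 48.
-/

namespace Cfsg.Agent.Lib.Helper11

open Cfsg Cfsg.Agent.Lib.Helper9 Module

/-- A reduction map classifying the lattice modulo twice the lattice, with at most `2 ^ 24` values. -/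
theorem exists_red : ∃ (n : ℕ) (r : (GolayPt → ℤ) → (Fin n → ZMod 2)), n ≤ 24 ∧
    ∀ x ∈ leechLattice, ∀ y ∈ leechLattice,
      (r x = r y ↔ ∃ z ∈ leechLattice, x - y = 2 • z) := by
  classical
  let L : Submodule ℤ (GolayPt → ℤ) := AddSubgroup.toIntSubmodule leechLattice
  have hL : ∀ x, x ∈ L ↔ x ∈ leechLattice := fun x => Iff.rfl
  let b := Module.finBasis ℤ L
  have hn : finrank ℤ L ≤ 24 := by
    have := Submodule.finrank_le L
    simpa using this
  let E := b.equivFun
  refine ⟨finrank ℤ L, fun x => if h : x ∈ L then fun i => ((E ⟨x, h⟩ i : ℤ) : ZMod 2) else 0, hn, ?_⟩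
  intro x hx y hy
  have hx' : x ∈ L := hx
  have hy' : y ∈ L := hy
  simp only [dif_pos hx', dif_pos hy']
  constructor
  · intro h
    have hd : ∀ i, (2 : ℤ) ∣ E (⟨x, hx'⟩ - ⟨y, hy'⟩) i := by
      intro i
      have h1 := congrFun h i
      rw [map_sub, Pi.sub_apply]
      have h2 : ((E ⟨x, hx'⟩ i - E ⟨y, hy'⟩ i : ℤ) : ZMod 2) = 0 := by
        push_cast
        rw [h1, sub_self]
      exact_mod_cast (ZMod.intCast_zmod_eq_zero_iff_dvd _ 2).1 h2
    choose c hc using hd
    refine ⟨(E.symm c : L), (E.symm c).2, ?_⟩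
    have h3 : (⟨x, hx'⟩ - ⟨y, hy'⟩ : L) = (2 : ℤ) • E.symm c := by
      apply E.injective
      rw [map_smul, LinearEquiv.apply_symm_apply]
      funext i
      rw [hc i]
      simp
    have h4 := congrArg (fun v : L => (v : GolayPt → ℤ)) h3
    simp only [AddSubgroupClass.coe_sub, Submodule.coe_smul] at h4
    rw [h4]
    funext i
    simp
  · rintro ⟨z, hz, hxy⟩
    have hz' : z ∈ L := hz
    have h3 : (⟨x, hx'⟩ : L) = ⟨y, hy'⟩ + (2 : ℤ) • ⟨z, hz'⟩ := by
      apply Subtype.ext
      simp only [Submodule.coe_add, Submodule.coe_smul]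
      have : x = y + (x - y) := by abel
      rw [this, hxy]
      funext i
      simp
    funext i
    rw [h3, map_add, map_smul]
    simp only [Pi.add_apply, Pi.smul_apply, smul_eq_mul]
    push_cast
    have : (2 : ZMod 2) = 0 := by decide
    rw [this, zero_mul, add_zero]

theorem dotInt_self (x : GolayPt → ℤ) : dotInt x x = sqNorm x := by
  unfold dotInt sqNorm
  exact Finset.sum_congr rfl (fun i _ => by ring)

/-- pairwise orthogonal nonzero vectors: at most 24. -/
theorem card_ortho_le24 (P : Finset (GolayPt → ℤ)) (h8 : ∀ y ∈ P, sqNorm y = 64)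
    (ho : ∀ y ∈ P, ∀ z ∈ P, y ≠ z → dotInt y z = 0) : P.card ≤ 24 := by
  have hli : LinearIndependent ℤ (fun y : P => (y : GolayPt → ℤ)) := by
    rw [linearIndependent_iff']
    intro s g hg j hj
    have h1 : (∑ i ∈ s, g i • (i : GolayPt → ℤ)) ⬝ᵥ (j : GolayPt → ℤ) = 0 := by
      rw [hg, zero_dotProduct]
    rw [sum_dotProduct] at h1
    rw [Finset.sum_eq_single j] at h1
    · rw [smul_dotProduct] at h1
      have h2 : (j : GolayPt → ℤ) ⬝ᵥ (j : GolayPt → ℤ) = 64 := by
        rw [← h8 j j.2, ← dotInt_self]; rfl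
      rw [h2, smul_eq_mul] at h1
      omega
    · intro i _ hij
      rw [smul_dotProduct]
      have h2 : (i : GolayPt → ℤ) ⬝ᵥ (j : GolayPt → ℤ) = 0 :=
        ho i i.2 j j.2 (fun h => hij (Subtype.ext h))
      rw [h2, smul_zero]
    · intro h; exact absurd hj h
  have := hli.fintype_card_le_finrank
  simpa using this

theorem fiber_le48 (F : Finset (GolayPt → ℤ)) (h8 : ∀ y ∈ F, sqNorm y = 64)
    (hneg : ∀ y ∈ F, -y ∈ F)
    (ho : ∀ y ∈ F, ∀ z ∈ F, z = y ∨ z = -y ∨ dotInt y z = 0) : F.card ≤ 48 := by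
  classical
  let pos : (GolayPt → ℤ) → Prop := fun y => ∃ i, 0 < y i ∧ ∀ j, enc j < enc i → y j = 0
  have hpos_or : ∀ y : GolayPt → ℤ, y ≠ 0 → pos y ∨ pos (-y) := by
    intro y hy
    have hne : (Finset.univ.filter fun i => y i ≠ 0).Nonempty := by
      by_contra h
      rw [Finset.not_nonempty_iff_eq_empty] at h
      apply hy
      funext i
      by_contra hi
      have : i ∈ (Finset.univ.filter fun i => y i ≠ 0) := by
        rw [Finset.mem_filter]; exact ⟨Finset.mem_univ _, hi⟩
      rw [h] at this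
      simp at this
    obtain ⟨i, hi, hmin⟩ := Finset.exists_min_image _ enc hne
    have hi' : y i ≠ 0 := (Finset.mem_filter.1 hi).2
    have hz : ∀ j, enc j < enc i → y j = 0 := by
      intro j hj
      by_contra hj0
      have := hmin j (by simp [hj0])
      omega
    rcases lt_or_gt_of_ne hi' with h | h
    · exact Or.inr ⟨i, by simpa using h, fun j hj => by simp [hz j hj]⟩
    · exact Or.inl ⟨i, h, hz⟩
  have hpos_not : ∀ y : GolayPt → ℤ, pos y → ¬ pos (-y) := by
    rintro y ⟨i, hi, hz⟩ ⟨j, hj, hz'⟩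
    simp only [Pi.neg_apply] at hj hz'
    rcases lt_trichotomy (enc i) (enc j) with h | h | h
    · have := hz' i h; omega
    · have := enc_injective h; subst this; omega
    · have := hz j h; omega
  set P := F.filter pos with hP
  have hPc : P.card ≤ 24 := by
    apply card_ortho_le24 P
    · intro y hy
      exact h8 y (Finset.mem_filter.1 hy).1
    · intro y hy z hz hyz
      rw [hP, Finset.mem_filter] at hy hz
      rcases ho y hy.1 z hz.1 with h | h | h
      · exact absurd h.symm hyz
      · exfalso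
        rw [h] at hz
        exact hpos_not y hy.2 hz.2
      · exact h
  have hsub : F ⊆ P ∪ P.image (fun y => -y) := by
    intro y hy
    have hne : y ≠ 0 := by
      intro h0
      have := h8 y hy
      rw [h0] at this
      simp [sqNorm] at this
    rcases hpos_or y hne with h | h
    · exact Finset.mem_union_left _ (Finset.mem_filter.2 ⟨hy, h⟩)
    · apply Finset.mem_union_right
      rw [Finset.mem_image]
      exact ⟨-y, Finset.mem_filter.2 ⟨hneg y hy, h⟩, neg_neg y⟩
  calc F.card ≤ (P ∪ P.image (fun y => -y)).card := Finset.card_le_card hsub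
    _ ≤ P.card + (P.image (fun y => -y)).card := Finset.card_union_le _ _
    _ ≤ P.card + P.card := Nat.add_le_add_left Finset.card_image_le _
    _ ≤ 48 := by omega

theorem cnt32 : cntE (Finset.Icc (-8) 8) (2 ^ 128) 32 0 + cntE (Finset.Icc (-8) 8) (2 ^ 128) 32 1 =
    196560 := by decide +kernel

theorem cnt48 : cntE (Finset.Icc (-8) 8) (2 ^ 128) 48 0 + cntE (Finset.Icc (-8) 8) (2 ^ 128) 48 1 =
    16773120 := by decide +kernel

theorem cnt64 : cntE (Finset.Icc (-8) 8) (2 ^ 128) 64 0 + cntE (Finset.Icc (-8) 8) (2 ^ 128) 64 1 =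
    398034000 := by decide +kernel

theorem mem_box8 {x : GolayPt → ℤ} (h : sqNorm x ≤ 64) (i : GolayPt) :
    x i ∈ Finset.Icc (-8 : ℤ) 8 := by
  have h1 : x i ^ 2 ≤ sqNorm x :=
    Finset.single_le_sum (f := fun i => x i ^ 2) (fun j _ => by positivity) (Finset.mem_univ i)
  rw [Finset.mem_Icc]
  constructor <;> nlinarith

open Classical in
/-- the lattice vectors of sum of squares `N` (for `N ≤ 64`) as a finite set -/
noncomputable def SN (N : ℕ) : Finset (GolayPt → ℤ) :=
  (Fintype.piFinset (fun _ : GolayPt => Finset.Icc (-8 : ℤ) 8)).filter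
    (fun x => x ∈ leechLattice ∧ sqNorm x = N)

theorem mem_SN {N : ℕ} (hN : N ≤ 64) (x : GolayPt → ℤ) :
    x ∈ SN N ↔ x ∈ leechLattice ∧ sqNorm x = N := by
  classical
  unfold SN
  rw [Finset.mem_filter, Fintype.mem_piFinset]
  constructor
  · exact fun h => h.2
  · intro h
    exact ⟨mem_box8 (by rw [h.2]; exact_mod_cast hN), h⟩

theorem card_SN {N : ℕ} (hN : N ≤ 64) : (SN N).card =
    cntE (Finset.Icc (-8) 8) (2 ^ 128) N 0 + cntE (Finset.Icc (-8) 8) (2 ^ 128) N 1 := by
  rw [← leech_ncard (Finset.Icc (-8) 8) (2 ^ 128) N (by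
    have : (Finset.Icc (-8 : ℤ) 8).card = 17 := by decide
    rw [this]; norm_num), ← Set.ncard_coe_finset]
  refine congrArg Set.ncard (Set.ext fun x => ?_)
  simp only [Finset.mem_coe, mem_SN hN, Set.mem_ofPred_eq]
  constructor
  · intro h
    exact ⟨h.1, h.2, mem_box8 (by rw [h.2]; exact_mod_cast hN)⟩
  · intro h
    exact ⟨h.1, h.2.1⟩

theorem sqNorm_neg' (v : GolayPt → ℤ) : sqNorm (-v) = sqNorm v := by
  simp [sqNorm]

/-- Both facts on the classes modulo twice the lattice. -/
theorem mod2_main :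
    (∀ x ∈ leechLattice, sqNorm x = 64 → (cross x).ncard = 48) ∧
    (∀ x ∈ leechLattice, ∃ y ∈ leechLattice, sqNorm y ≤ 64 ∧
      ∃ z ∈ leechLattice, x - y = 2 • z) := by
  classical
  obtain ⟨n, r, hn, hr⟩ := exists_red
  obtain ⟨SN, mem_SN, c4, c6, c8⟩ : ∃ S : ℕ → Finset (GolayPt → ℤ),
      (∀ {N : ℕ}, N ≤ 64 → ∀ x, x ∈ S N ↔ x ∈ leechLattice ∧ sqNorm x = N) ∧
      (S 32).card = 196560 ∧ (S 48).card = 16773120 ∧ (S 64).card = 398034000 :=
    ⟨SN, fun hN x => mem_SN hN x, by rw [card_SN (by norm_num), cnt32],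
      by rw [card_SN (by norm_num), cnt48], by rw [card_SN (by norm_num), cnt64]⟩
  have c0 : (SN 0).card = 1 := by
    have : SN 0 = {0} := by
      ext x
      rw [mem_SN (by norm_num), Finset.mem_singleton]
      constructor
      · rintro ⟨h1, h2⟩
        by_contra h0
        have := leech_min_norm_of min_weight h1 h0
        rw [h2] at this
        norm_num at this
      · rintro rfl
        exact ⟨leechLattice.zero_mem, by simp [sqNorm]⟩
    rw [this]; simp
  have short : ∀ (M N : ℕ), M ≤ 64 → N ≤ 64 → ∀ x ∈ SN M, ∀ y ∈ SN N, r x = r y →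
      y = x ∨ y = -x ∨ (M = 64 ∧ N = 64 ∧ dotInt x y = 0) := by
    intro M N hM hN x hx y hy hxy
    rw [mem_SN hM] at hx
    rw [mem_SN hN] at hy
    by_cases h1 : x = y
    · exact Or.inl h1.symm
    rcases Cfsg.Agent.S5592.result x y hx.1 hy.1 h1 (by rw [hx.2]; exact_mod_cast hM)
      (by rw [hy.2]; exact_mod_cast hN) ((hr x hx.1 y hy.1).1 hxy) with h | h
    · exact Or.inr (Or.inl (by rw [h, neg_neg]))
    · refine Or.inr (Or.inr ⟨?_, ?_, h.2.2⟩)
      · have := h.1; rw [hx.2] at this; exact_mod_cast this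
      · have := h.2.1; rw [hy.2] at this; exact_mod_cast this
  have two : ∀ N : ℕ, N < 64 → (SN N).card ≤ 2 * ((SN N).image r).card := by
    intro N hN
    apply Finset.card_le_mul_card_image
    intro a ha
    obtain ⟨x0, hx0, rfl⟩ := Finset.mem_image.1 ha
    calc _ ≤ ({x0, -x0} : Finset (GolayPt → ℤ)).card := Finset.card_le_card (by
            intro y hy
            rw [Finset.mem_filter] at hy
            rcases short N N hN.le hN.le x0 hx0 y hy.1 hy.2.symm with h | h | h
            · rw [h]; simp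
            · rw [h]; simp
            · omega)
      _ ≤ 2 := Finset.card_le_two
  have dj : ∀ M N : ℕ, M ≤ 64 → N ≤ 64 → M ≠ N →
      Disjoint ((SN M).image r) ((SN N).image r) := by
    intro M N hM hN hMN
    rw [Finset.disjoint_left]
    intro a ha hb
    obtain ⟨x, hx, rfl⟩ := Finset.mem_image.1 ha
    obtain ⟨y, hy, hxy⟩ := Finset.mem_image.1 hb
    have hx' := (mem_SN hM x).1 hx
    have hy' := (mem_SN hN y).1 hy
    rcases short M N hM hN x hx y hy hxy.symm with h | h | h
    · rw [h, hx'.2] at hy'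
      exact hMN (by exact_mod_cast hy'.2)
    · rw [h, sqNorm_neg', hx'.2] at hy'
      exact hMN (by exact_mod_cast hy'.2)
    · omega
  have hfib : ∀ c ∈ (SN 64).image r, ((SN 64).filter (fun y => r y = c)).card ≤ 48 := by
    intro c _
    apply fiber_le48
    · intro y hy
      exact_mod_cast ((mem_SN le_rfl y).1 (Finset.mem_filter.1 hy).1).2
    · intro y hy
      rw [Finset.mem_filter] at hy ⊢
      have hy' := (mem_SN le_rfl y).1 hy.1
      refine ⟨(mem_SN le_rfl _).2 ⟨leechLattice.neg_mem hy'.1, by rw [sqNorm_neg']; exact hy'.2⟩, ?_⟩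
      rw [← hy.2]
      refine (hr _ (leechLattice.neg_mem hy'.1) _ hy'.1).2 ⟨-y, leechLattice.neg_mem hy'.1, ?_⟩
      funext i
      simp only [Pi.sub_apply, Pi.neg_apply, Pi.smul_apply]
      ring
    · intro y hy z hz
      rw [Finset.mem_filter] at hy hz
      rcases short 64 64 le_rfl le_rfl y hy.1 z hz.1 (hy.2.trans hz.2.symm) with h | h | h
      · exact Or.inl h
      · exact Or.inr (Or.inl h)
      · exact Or.inr (Or.inr h.2.2)
  set U := (((SN 0).image r ∪ (SN 32).image r) ∪ (SN 48).image r) ∪ (SN 64).image r with hUdef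
  have hT : Fintype.card (Fin n → ZMod 2) ≤ 16777216 := by
    rw [Fintype.card_fun, ZMod.card, Fintype.card_fin]
    calc 2 ^ n ≤ 2 ^ 24 := Nat.pow_le_pow_right (by norm_num) hn
      _ = 16777216 := by norm_num
  have hU : U.card ≤ Fintype.card (Fin n → ZMod 2) := Finset.card_le_univ U
  have hUc : U.card = ((SN 0).image r).card + ((SN 32).image r).card + ((SN 48).image r).card +
      ((SN 64).image r).card := by
    rw [hUdef, Finset.card_union_of_disjoint (by
        rw [Finset.disjoint_union_left, Finset.disjoint_union_left]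
        exact ⟨⟨dj 0 64 (by norm_num) le_rfl (by norm_num), dj 32 64 (by norm_num) le_rfl
          (by norm_num)⟩, dj 48 64 (by norm_num) le_rfl (by norm_num)⟩),
      Finset.card_union_of_disjoint (by
        rw [Finset.disjoint_union_left]
        exact ⟨dj 0 48 (by norm_num) (by norm_num) (by norm_num),
          dj 32 48 (by norm_num) (by norm_num) (by norm_num)⟩),
      Finset.card_union_of_disjoint (dj 0 32 (by norm_num) (by norm_num) (by norm_num))]
  have i0 : 1 ≤ ((SN 0).image r).card := by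
    rw [Nat.succ_le_iff, Finset.card_pos, Finset.image_nonempty, ← Finset.card_pos, c0]
    norm_num
  have i4 := two 32 (by norm_num)
  have i6 := two 48 (by norm_num)
  have hsum := Finset.card_eq_sum_card_image r (SN 64)
  have i8 : (SN 64).card ≤ 48 * ((SN 64).image r).card := by
    rw [hsum]
    calc _ ≤ ∑ c ∈ (SN 64).image r, 48 := Finset.sum_le_sum hfib
      _ = 48 * ((SN 64).image r).card := by rw [Finset.sum_const, smul_eq_mul, mul_comm]
  constructor
  · intro x hx hxn
    have hset : cross x = ↑((SN 64).filter (fun y => r y = r x)) := by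
      ext y
      simp only [cross, Set.mem_ofPred_eq, Finset.coe_filter, mem_SN le_rfl, hxn]
      constructor
      · rintro ⟨h1, h2, h3⟩
        exact ⟨⟨h1, by exact_mod_cast h2⟩, ((hr x hx y h1).2 h3).symm⟩
      · rintro ⟨⟨h1, h2⟩, h3⟩
        exact ⟨h1, by exact_mod_cast h2, (hr x hx y h1).1 h3.symm⟩
    rw [hset, Set.ncard_coe_finset]
    have hxm : r x ∈ (SN 64).image r :=
      Finset.mem_image_of_mem _ ((mem_SN le_rfl x).2 ⟨hx, by exact_mod_cast hxn⟩)
    by_contra hne
    have hlt : ((SN 64).filter (fun y => r y = r x)).card < 48 := lt_of_le_of_ne (hfib _ hxm) hne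
    have hlt2 : ∑ c ∈ (SN 64).image r, ((SN 64).filter (fun y => r y = c)).card <
        ∑ c ∈ (SN 64).image r, 48 := Finset.sum_lt_sum hfib ⟨r x, hxm, hlt⟩
    rw [Finset.sum_const, smul_eq_mul] at hlt2
    omega
  · intro x hx
    have hUu : U = Finset.univ := by
      apply Finset.eq_univ_of_card
      omega
    have hxU : r x ∈ U := by rw [hUu]; exact Finset.mem_univ _
    have hex : ∃ N : ℕ, N ≤ 64 ∧ r x ∈ (SN N).image r := by
      rw [hUdef] at hxU
      simp only [Finset.mem_union] at hxU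
      rcases hxU with ((h | h) | h) | h
      · exact ⟨0, by norm_num, h⟩
      · exact ⟨32, by norm_num, h⟩
      · exact ⟨48, by norm_num, h⟩
      · exact ⟨64, le_rfl, h⟩
    obtain ⟨N, hN, hm⟩ := hex
    obtain ⟨y, hy, hxy⟩ := Finset.mem_image.1 hm
    have hy' := (mem_SN hN y).1 hy
    exact ⟨y, hy'.1, by rw [hy'.2]; exact_mod_cast hN, (hr x hx y hy'.1).1 hxy.symm⟩

end Cfsg.Agent.Lib.Helper11
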