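import Cfsg.Agent.S0120

set_option autoImplicit false

namespace Cfsg.Agent.Lib.Helper11

open scoped commutatorElement
open Cfsg.Agent.Lib.Helper3

universe u

/-- An automorphism of odd order of a finite `2`-group fixing every element of order dividing `4`
is trivial (induction form). -/
theorem aut_eq_one_of_fix_four_aux (n : ℕ) :
    ∀ (G : Type u) [Group G] [Finite G], Nat.card G = n → IsPGroup 2 G → ∀ a : MulAut G,
      Nat.Coprime (orderOf a) 2 → (∀ x : G, x ^ 4 = 1 → a x = x) → a = 1 := by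
  induction n using Nat.strong_induction_on with
  | _ n ih =>
  intro G _ _ hn hG a ha h
  have hpr : Nat.Prime 2 := Nat.prime_two
  obtain ⟨H, hHc, h1, h2, h3⟩ := Cfsg.Agent.S0093.result hG
  apply Cfsg.Agent.S0121.result hG H hHc h1 h2 h3 a ha
  by_cases hHbot : H = ⊥
  · intro x hx
    rw [hHbot, Subgroup.mem_bot] at hx
    rw [hx, map_one]
  have hHp : IsPGroup 2 H := hG.to_subgroup H
  have hfc : frattini H ≤ Subgroup.center H := by
    intro x hx
    rw [Subgroup.mem_center_iff]
    intro g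
    have := h1 ⟨x, hx, rfl⟩
    exact Subtype.ext (Subgroup.mem_centralizer_iff.mp this g g.2)
  have hcl : ⁅commutator H, (⊤ : Subgroup H)⁆ = ⊥ :=
    class_two_of_commutator_le_center ((commutator_le_frattini hHp).trans hfc)
  have hmul : ∀ x y : H, (x * y) ^ 4 = x ^ 4 * y ^ 4 := by
    intro x y
    rw [mul_pow_class_two hcl]
    have hc2 : ⁅y⁻¹, x⁻¹⁆ ^ 2 = 1 := by
      rw [← commutator_pow_left_class_two hcl, commutatorElement_eq_one_iff_mul_comm]
      exact (Subgroup.mem_center_iff.mp (hfc (pow_p_mem_frattini hHp y⁻¹)) x⁻¹).symm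
    have : (4 : ℕ).choose 2 = 2 * 3 := by decide
    rw [this, pow_mul, hc2, one_pow, mul_one]
  let φ : H →* H :=
    { toFun := fun x => x ^ 4
      map_one' := one_pow 4
      map_mul' := hmul }
  let I : Subgroup G := (H.subtype.comp φ).range
  have hI1 : ∀ x ∈ I, a x ∈ I := by
    rintro _ ⟨x, rfl⟩
    refine ⟨⟨a x, char_aut_mem hHc a x.2⟩, ?_⟩
    show (a (x : G)) ^ 4 = a ((x : G) ^ 4)
    rw [map_pow]
  have hI2 : ∀ x ∈ I, a.symm x ∈ I := by
    rintro _ ⟨x, rfl⟩
    refine ⟨⟨a.symm x, char_aut_mem hHc a.symm x.2⟩, ?_⟩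
    show (a.symm (x : G)) ^ 4 = a.symm ((x : G) ^ 4)
    rw [map_pow]
  have hIcard : Nat.card I < n := by
    have hidx : (H.subtype.comp φ).ker.index = Nat.card I := Subgroup.index_ker _
    have hmulc := (H.subtype.comp φ).ker.card_mul_index
    have hdvd : 2 ∣ Nat.card H := by
      refine hHp.card_eq_or_dvd.resolve_left ?_
      intro hc
      exact hHbot (Subgroup.card_eq_one.mp hc)
    obtain ⟨x, hx⟩ := exists_prime_orderOf_dvd_card' 2 hdvd
    have hxk : x ∈ (H.subtype.comp φ).ker := by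
      rw [MonoidHom.mem_ker]
      show ((x ^ 4 : H) : G) = 1
      have : x ^ 4 = 1 := by
        have h2 : x ^ 2 = 1 := by rw [← hx, pow_orderOf_eq_one]
        calc x ^ 4 = (x ^ 2) ^ 2 := by rw [← pow_mul]
          _ = 1 := by rw [h2, one_pow]
      rw [this]; rfl
    have hx1 : x ≠ 1 := by
      rintro rfl
      rw [orderOf_one] at hx
      exact hpr.one_lt.ne hx
    have hk2 : 1 < Nat.card (H.subtype.comp φ).ker := by
      rw [Subgroup.one_lt_card_iff_ne_bot]
      intro hbot
      rw [hbot, Subgroup.mem_bot] at hxk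
      exact hx1 hxk
    have hHle : Nat.card H ≤ n := hn ▸ Subgroup.card_le_card_group H
    have hpos : 0 < Nat.card I := Nat.card_pos
    rw [hidx] at hmulc
    nlinarith
  have hb := ih (Nat.card I) hIcard I rfl (hG.to_subgroup I) (restrictAut a I hI1 hI2)
    (Nat.Coprime.coprime_dvd_left (orderOf_restrictAut_dvd a I hI1 hI2) ha)
    (by
      intro x hx
      apply Subtype.ext
      rw [restrictAut_apply]
      apply h
      have := congrArg Subtype.val hx
      simpa using this)
  have hfixI : ∀ y ∈ I, a y = y := by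
    intro y hy
    have := congrArg (fun f : MulAut I => ((f ⟨y, hy⟩ : I) : G)) hb
    simpa using this
  intro x hx
  apply aut_fixes_of_coprime hG a ha
  apply h
  have hax : a x ∈ H := char_aut_mem hHc a hx
  have e1 : ((⟨x, hx⟩ : H)⁻¹ * ⟨a x, hax⟩) ^ 4 = (⟨x, hx⟩ : H)⁻¹ ^ 4 * (⟨a x, hax⟩ : H) ^ 4 := hmul _ _
  have e2 := congrArg Subtype.val e1
  simp only [Subgroup.coe_pow, Subgroup.coe_mul, Subgroup.coe_inv] at e2
  rw [e2, ← map_pow, hfixI (x ^ 4) ⟨⟨x, hx⟩, rfl⟩, inv_pow, inv_mul_cancel]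

/-- A `p'`-automorphism of a finite `p`-group fixing every element of order dividing `p`
(dividing `4` when `p = 2`) is trivial. -/
theorem aut_eq_one_of_fix_omega {G : Type*} [Group G] [Finite G] {p : ℕ} [Fact p.Prime]
    (hG : IsPGroup p G) (a : MulAut G) (ha : Nat.Coprime (orderOf a) p)
    (h : ∀ x : G, (x ^ p = 1 ∨ (p = 2 ∧ x ^ 4 = 1)) → a x = x) : a = 1 := by
  by_cases hp : p = 2
  · subst hp
    exact aut_eq_one_of_fix_four_aux _ G rfl hG a ha (fun x hx => h x (Or.inr ⟨rfl, hx⟩))
  · exact Cfsg.Agent.S0120.result hp hG a ha (fun x hx => h x (Or.inl hx))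

/-- Subgroup form: a `p'`-element normalizing a `p`-subgroup `Q` and centralizing all its elements
of order dividing `p` (dividing `4` when `p = 2`) centralizes `Q`. -/
theorem mem_centralizer_of_fix_omega {G : Type*} [Group G] [Finite G] {p : ℕ} [Fact p.Prime]
    (Q : Subgroup G) (hQ : IsPGroup p Q) (g : G) (hg : g ∈ Subgroup.normalizer (Q : Set G))
    (hgp : Nat.Coprime (orderOf g) p)
    (h : ∀ x ∈ Q, (x ^ p = 1 ∨ (p = 2 ∧ x ^ 4 = 1)) → g * x = x * g) :
    g ∈ Subgroup.centralizer (Q : Set G) := by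
  have hord : (orderOf (Q.normalizerMonoidHom ⟨g, hg⟩)).Coprime p := by
    have h8 : orderOf (Q.normalizerMonoidHom ⟨g, hg⟩) ∣ orderOf g := by
      have := orderOf_map_dvd Q.normalizerMonoidHom (⟨g, hg⟩ : Subgroup.normalizer (Q : Set G))
      rwa [Subgroup.orderOf_mk] at this
    exact Nat.Coprime.coprime_dvd_left h8 hgp
  have h5 := aut_eq_one_of_fix_omega hQ _ hord (by
    intro x hx
    apply Subtype.ext
    have hx' : ((x : G) ^ p = 1 ∨ (p = 2 ∧ (x : G) ^ 4 = 1)) := by
      rcases hx with hx | ⟨h2, hx⟩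
      · left
        have := congrArg Subtype.val hx
        simpa using this
      · right
        refine ⟨h2, ?_⟩
        have := congrArg Subtype.val hx
        simpa using this
    have h6 := h x x.2 hx'
    show g * (x : G) * g⁻¹ = x
    rw [h6, mul_inv_cancel_right])
  have h6 : (⟨g, hg⟩ : Subgroup.normalizer (Q : Set G)) ∈ Q.normalizerMonoidHom.ker := h5
  rw [Subgroup.normalizerMonoidHom_ker, Subgroup.mem_subgroupOf] at h6
  exact h6

end Cfsg.Agent.Lib.Helper11
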