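import Mathlib
import Cfsg.Agent.Lib.Helper99.PGB.Defs
import Cfsg.Agent.Lib.Helper48.JordanConj

set_option autoImplicit false

universe u

namespace Cfsg.Agent.Lib.Helper11.PGB

open Module LinearMap Cfsg.Agent.Lib.Helper48 Cfsg.Agent.Lib.Helper99.PGB

section

variable {F : Type u} [Field F] {V₁ V₂ : Type u} [AddCommGroup V₁] [Module F V₁]
  [AddCommGroup V₂] [Module F V₂]

/-- orthogonal sum of two bilinear forms -/
noncomputable def add_form (S₁ : LinearMap.BilinForm F V₁) (S₂ : LinearMap.BilinForm F V₂) :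
    LinearMap.BilinForm F (V₁ × V₂) :=
  S₁.comp (LinearMap.fst F _ _) (LinearMap.fst F _ _) +
    S₂.comp (LinearMap.snd F _ _) (LinearMap.snd F _ _)

theorem add_form_apply (S₁ : LinearMap.BilinForm F V₁) (S₂ : LinearMap.BilinForm F V₂)
    (p q : V₁ × V₂) : add_form S₁ S₂ p q = S₁ p.1 q.1 + S₂ p.2 q.2 := rfl

theorem add_nondeg {S₁ : LinearMap.BilinForm F V₁} {S₂ : LinearMap.BilinForm F V₂}
    (h₁ : ∀ x, (∀ y, S₁ x y = 0) → x = 0) (h₂ : ∀ x, (∀ y, S₂ x y = 0) → x = 0) :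
    ∀ x, (∀ y, add_form S₁ S₂ x y = 0) → x = 0 := by
  rintro ⟨x₁, x₂⟩ hx
  have e1 : x₁ = 0 := by
    apply h₁
    intro y
    have := hx (y, 0)
    rw [add_form_apply] at this
    simpa using this
  have e2 : x₂ = 0 := by
    apply h₂
    intro y
    have := hx (0, y)
    rw [add_form_apply] at this
    simpa using this
  rw [e1, e2]
  rfl

theorem add_prodMap_eq_one (f : End F V₁) (g : End F V₂) :
    (LinearMap.prodMap f g : End F (V₁ × V₂)) = 1 ↔ f = 1 ∧ g = 1 := by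
  constructor
  · intro h
    constructor
    · apply LinearMap.ext
      intro x
      have := congrArg (fun φ : End F (V₁ × V₂) => (φ (x, 0)).1) h
      simpa using this
    · apply LinearMap.ext
      intro x
      have := congrArg (fun φ : End F (V₁ × V₂) => (φ (0, x)).2) h
      simpa using this
  · rintro ⟨rfl, rfl⟩
    apply LinearMap.ext
    rintro ⟨x, y⟩
    rfl

theorem add_iso {S₁ : LinearMap.BilinForm F V₁} {S₂ : LinearMap.BilinForm F V₂}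
    {T₁ : End F V₁} {T₂ : End F V₂} (h₁ : IsoB S₁ T₁) (h₂ : IsoB S₂ T₂) :
    IsoB (add_form S₁ S₂) (LinearMap.prodMap T₁ T₂ : End F (V₁ × V₂)) := by
  intro x w
  rw [add_form_apply, add_form_apply]
  exact congrArg₂ (· + ·) (h₁ x.1 w.1) (h₂ x.2 w.2)

theorem add_ord {T₁ : End F V₁} {T₂ : End F V₂} {K₁ K₂ : ℕ} (h₁ : ∀ j, T₁ ^ j = 1 ↔ K₁ ∣ j)
    (h₂ : ∀ j, T₂ ^ j = 1 ↔ K₂ ∣ j) (j : ℕ) :
    (LinearMap.prodMap T₁ T₂ : End F (V₁ × V₂)) ^ j = 1 ↔ Nat.lcm K₁ K₂ ∣ j := by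
  rw [prodMap_pow', add_prodMap_eq_one, h₁, h₂, Nat.lcm_dvd_iff]

end

/-- ADD -/
theorem OR_add {F : Type u} [Field F] {d₁ d₂ K₁ K₂ : ℕ} (h₁ : OR F d₁ K₁) (h₂ : OR F d₂ K₂) :
    OR F (d₁ + d₂) (Nat.lcm K₁ K₂) := by
  obtain ⟨V₁, _, _, _, S₁, T₁, hd₁, hs₁, hn₁, hi₁, ho₁⟩ := h₁
  obtain ⟨V₂, _, _, _, S₂, T₂, hd₂, hs₂, hn₂, hi₂, ho₂⟩ := h₂
  refine ⟨V₁ × V₂, inferInstance, inferInstance, inferInstance, add_form S₁ S₂,
    LinearMap.prodMap T₁ T₂, by rw [finrank_prod, hd₁, hd₂], ?_, add_nondeg hn₁ hn₂,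
    add_iso hi₁ hi₂, add_ord ho₁ ho₂⟩
  intro x y
  rw [add_form_apply, add_form_apply, hs₁, hs₂]

theorem AR_add {F : Type u} [Field F] {d₁ d₂ K₁ K₂ : ℕ} (h₁ : AR F d₁ K₁) (h₂ : AR F d₂ K₂) :
    AR F (d₁ + d₂) (Nat.lcm K₁ K₂) := by
  obtain ⟨V₁, _, _, _, S₁, T₁, hd₁, hs₁, hn₁, hi₁, ho₁⟩ := h₁
  obtain ⟨V₂, _, _, _, S₂, T₂, hd₂, hs₂, hn₂, hi₂, ho₂⟩ := h₂
  refine ⟨V₁ × V₂, inferInstance, inferInstance, inferInstance, add_form S₁ S₂,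
    LinearMap.prodMap T₁ T₂, by rw [finrank_prod, hd₁, hd₂], ?_, add_nondeg hn₁ hn₂,
    add_iso hi₁ hi₂, add_ord ho₁ ho₂⟩
  intro x
  rw [add_form_apply, hs₁, hs₂, add_zero]

end Cfsg.Agent.Lib.Helper11.PGB
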