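import Mathlib
import Cfsg.Agent.Lib.Helper99.PGB.TR
import Cfsg.Agent.Lib.Helper48.SpProj
import Cfsg.Agent.Lib.Helper48.RegUnipSp
import Cfsg.Agent.S0245

set_option autoImplicit false

universe u

namespace Cfsg.Agent.Lib.Helper11.PGB

open Module LinearMap Cfsg.Agent.Lib.Helper17 Cfsg.Agent.Lib.Helper48 Cfsg.Agent.Lib.Helper99.PGB

theorem ero_pow_of_sq_zero {R : Type*} [Ring R] {N : R} (hN : N * N = 0) (k : ℕ) :
    (1 + N) ^ k = 1 + (k : R) * N := by
  induction k with
  | zero => simp
  | succ k ih =>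
    have e : (1 + (k : R) * N) * (1 + N) = 1 + ((k : R) + 1) * N + (k : R) * (N * N) := by
      noncomm_ring
    rw [pow_succ, ih, e, hN]
    push_cast
    simp

theorem ero_fix_iff {F V : Type*} [Field F] [AddCommGroup V] [Module F V] {r : ℕ} (hr : r.Prime)
    (hrF : (r : F) ≠ 0) {x : End F V} (hxr : x ^ r = 1) (hx1 : x ≠ 1) (j : ℕ) :
    (∀ w ∈ range (x - 1), (x ^ j) w = w) ↔ r ∣ j := by
  constructor
  · intro h
    by_contra hj
    have hcop : Nat.Coprime j r := (Nat.Coprime.symm ((Nat.Prime.coprime_iff_not_dvd hr).mpr hj))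
    obtain ⟨m, hm⟩ := Nat.exists_mul_mod_eq_one_of_coprime hcop hr.one_lt
    have h1 : ∀ w ∈ range (x - 1), x w = w := by
      intro w hw
      have h2 : ∀ k : ℕ, ((x ^ j) ^ k) w = w := by
        intro k
        induction k with
        | zero => simp
        | succ k ih => rw [pow_succ, Module.End.mul_apply, h w hw, ih]
      have h3 := h2 m
      rw [← pow_mul, pow_eq_pow_mod _ hxr, hm.2, pow_one] at h3
      exact h3
    set N := x - 1 with hN
    have hNN : N * N = 0 := by
      apply LinearMap.ext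
      intro v
      have := h1 (N v) ⟨v, rfl⟩
      rw [Module.End.mul_apply, hN, LinearMap.sub_apply, Module.End.one_apply, ← hN, this, sub_self]
      rfl
    have hx : x = 1 + N := by rw [hN]; abel
    have h4 := ero_pow_of_sq_zero hNN r
    rw [← hx, hxr] at h4
    have h5 : (r : End F V) * N = 0 := by
      have : (1 : End F V) + (r : End F V) * N = 1 + 0 := by rw [← h4, add_zero]
      exact add_left_cancel this
    have h6 : N = 0 := by
      apply LinearMap.ext
      intro v
      have h7 := congrArg (fun f : End F V => f v) h5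
      simp only [Module.End.mul_apply, LinearMap.zero_apply] at h7
      have h8 : ((r : End F V)) (N v) = (r : F) • N v := by
        rw [Module.End.natCast_apply, Nat.cast_smul_eq_nsmul]
      rw [h8] at h7
      exact (smul_eq_zero.mp h7).resolve_left hrF
    apply hx1
    rw [hx, h6, add_zero]
  · rintro ⟨c, rfl⟩ w _
    rw [pow_mul, hxr, one_pow]
    rfl

/-- ERO : `Er` gives an orthogonal space of dimension `≤ 2n-2` with an isometry of order `r` -/
theorem OR_of_Er {F : Type u} [Field F] [Fintype F] (h2 : (2 : F) ≠ 0) {n r : ℕ} (hr : r.Prime)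
    (hr2 : r ≠ 2) (hrq : ¬ r ∣ Fintype.card F) (h : Er (Fintype.card F) n r) :
    ∃ d, d ≤ 2 * n - 2 ∧ OR F d r := by
  obtain ⟨i, hi1, hin, hri⟩ := h
  have : Fact r.Prime := ⟨hr⟩
  have hc1 : r ∣ Nat.card (Matrix.symplecticGroup (Fin i) F) := by
    rw [Cfsg.Agent.S0245.result rfl i]
    apply Dvd.dvd.mul_left
    apply hri.trans
    have : 2 * i = 2 * ((i - 1) + 1) := by omega
    rw [this]
    exact Finset.dvd_prod_of_mem (fun i => Fintype.card F ^ (2 * (i + 1)) - 1)
      (Finset.mem_range.2 (by omega))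
  obtain ⟨A, hA⟩ := exists_prime_orderOf_dvd_card' r hc1
  set x : End F (Fin i ⊕ Fin i → F) :=
    Matrix.mulVecLin (A : Matrix (Fin i ⊕ Fin i) (Fin i ⊕ Fin i) F) with hx
  have hxr : x ^ r = 1 := by
    rw [hx, ← (sp_pow_iff A r).1, ← hA]
    exact pow_orderOf_eq_one A
  have hx1 : x ≠ 1 := by
    intro h1
    have : x ^ 1 = 1 := by rw [pow_one, h1]
    rw [hx, ← (sp_pow_iff A 1).1, ← orderOf_dvd_iff_pow_eq_one, hA] at this
    exact hr.one_lt.ne' (Nat.dvd_one.mp this)
  have hrF : (r : F) ≠ 0 := by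
    obtain ⟨p, hp⟩ := CharP.exists F
    have hpp : Fact p.Prime := ⟨CharP.char_is_prime F p⟩
    rw [Ne, CharP.cast_eq_zero_iff F p r]
    intro hpr
    have hpr' : p = r := (Nat.prime_dvd_prime_iff_eq hpp.out hr).mp hpr
    obtain ⟨k, -, hk⟩ := FiniteField.card F p
    apply hrq
    rw [hk, hpr']
    exact dvd_pow_self r k.ne_zero
  have hiso : IsoB (sympB i F) x := isoB_mulVecLin A
  have htr := (transfer h2 (sympB i F) (sympB_nondegenerate (F := F) i).1 x x hiso hiso
    (Commute.refl x) (hr.odd_of_ne_two hr2) hrF hxr (K := r) (ero_fix_iff hr hrF hxr hx1)).1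
    (sympB_isAlt i)
  refine ⟨_, ?_, htr⟩
  have h3 : finrank F (range (x - 1)) ≤ finrank F (Fin i ⊕ Fin i → F) := Submodule.finrank_le _
  rw [Module.finrank_fintype_fun_eq_card] at h3
  simp only [Fintype.card_sum, Fintype.card_fin] at h3
  omega

end Cfsg.Agent.Lib.Helper11.PGB
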