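import Mathlib
import Cfsg.Agent.Lib.Helper99.PGB.Defs
import Cfsg.Agent.Lib.Helper48.SpExist
import Cfsg.Agent.S0245

set_option autoImplicit false

universe u

namespace Cfsg.Agent.Lib.Helper11.PGB

open Module LinearMap Cfsg.Agent.Lib.Helper17 Cfsg.Agent.Lib.Helper48 Cfsg.Agent.Lib.Helper99.PGB

/-- ERS : `Er` gives `2 r` in `PSp` -/
theorem psp_two_r_of_Er {F : Type*} [Field F] [Fintype F] (h2 : (2 : F) ≠ 0) {n r : ℕ}
    (hr : r.Prime) (hr2 : r ≠ 2) (h : Er (Fintype.card F) n r) :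
    ∃ y : Cfsg.PSp n F, orderOf y = 2 * r := by
  obtain ⟨i, hi1, hin, hri⟩ := h
  have : Fact r.Prime := ⟨hr⟩
  obtain ⟨n₁, hn₁⟩ : ∃ n₁, n₁ = n - 1 := ⟨_, rfl⟩
  rw [← hn₁] at hin
  have hc1 : r ∣ Nat.card (Matrix.symplecticGroup (Fin n₁) F) := by
    rw [Cfsg.Agent.S0245.result rfl n₁]
    apply Dvd.dvd.mul_left
    apply hri.trans
    have : 2 * i = 2 * ((i - 1) + 1) := by omega
    rw [this]
    exact Finset.dvd_prod_of_mem (fun i => Fintype.card F ^ (2 * (i + 1)) - 1)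
      (Finset.mem_range.2 (by omega))
  obtain ⟨A₁, hA₁⟩ := exists_prime_orderOf_dvd_card' r hc1
  exact exists_PSp_two_mul h2 (n₁ := n₁) (n₂ := 1) (n := n) (by omega) le_rfl (by omega) A₁ 1 r
    (hr.odd_of_ne_two hr2) (by rw [hA₁]; exact Nat.dvd_lcm_left _ _)

end Cfsg.Agent.Lib.Helper11.PGB
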