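import Mathlib
import Cfsg.Agent.Lib.Helper99.PGB.Defs
import Cfsg.Agent.Lib.Helper48.JordanForm

set_option autoImplicit false

universe u

namespace Cfsg.Agent.Lib.Helper11.PGB

open Module LinearMap Cfsg.Agent.Lib.Helper48 Cfsg.Agent.Lib.Helper99.PGB

/-- EVEN -/
theorem AR_even {F : Type u} [Field F] {d K : ℕ} (h : AR F d K) : Even d := by
  obtain ⟨V, _, _, _, S, T, hd, hs, hn, -, -⟩ := h
  have h1 := even_finrank_add_finrank_ker_of_isAlt S hs
  have h2 : ker S = ⊥ := by
    rw [LinearMap.ker_eq_bot']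
    intro x hx
    apply hn
    intro y
    rw [hx]
    rfl
  rw [h2, finrank_bot, add_zero, hd] at h1
  exact h1

end Cfsg.Agent.Lib.Helper11.PGB
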