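import Mathlib
import Cfsg.Agent.Lib.Helper99.PGB.Defs

set_option autoImplicit false

universe u

namespace Cfsg.Agent.Lib.Helper11.PGB

open Module LinearMap Cfsg.Agent.Lib.Helper48 Cfsg.Agent.Lib.Helper99.PGB

/-- FOUR -/
theorem OR_two_four (F : Type u) [Field F] (h2 : (2 : F) ≠ 0) : OR F 2 4 := by
  set M : Matrix (Fin 2) (Fin 2) F := !![0, -1; 1, 0] with hM
  have hM2 : M ^ 2 = -1 := by
    rw [hM, pow_two]
    ext i j
    fin_cases i <;> fin_cases j <;> simp [Matrix.mul_apply, Fin.sum_univ_two]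
  set T : End F (Fin 2 → F) := Matrix.toLin' M with hT
  have hTpow : ∀ j, T ^ j = Matrix.toLin' (M ^ j) := by
    intro j
    rw [hT, Matrix.toLin'_pow]
  have hord : orderOf T = 2 ^ (1 + 1) := by
    apply orderOf_eq_prime_pow
    · rw [pow_one, hTpow, hM2]
      intro h
      have h1 := congrArg (fun f : End F (Fin 2 → F) => f (Pi.single 0 1) 0) h
      simp at h1
      apply h2
      have : (2 : F) = 1 - (-1) := by ring
      rw [this, h1]; ring
    · have : (2 : ℕ) ^ (1 + 1) = 2 * 2 := by norm_num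
      rw [this, hTpow, pow_mul, hM2]
      simp
      rfl
  refine ⟨Fin 2 → F, inferInstance, inferInstance, inferInstance,
    Matrix.toBilin' (1 : Matrix (Fin 2) (Fin 2) F), T, by simp, ?_, ?_, ?_, ?_⟩
  · intro x y
    simp [Matrix.toBilin'_apply', dotProduct_comm]
  · intro x hx
    apply dotProduct_eq_zero_iff.mp
    intro y
    have := hx y
    simpa [Matrix.toBilin'_apply'] using this
  · intro x w
    simp [Matrix.toBilin'_apply', hT, hM, dotProduct, Fin.sum_univ_two, Matrix.mulVec]
    ring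
  · intro j
    rw [← orderOf_dvd_iff_pow_eq_one, hord]
    norm_num

end Cfsg.Agent.Lib.Helper11.PGB
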