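import Mathlib
import Cfsg.Agent.Lib.Helper99.PGB.Defs
import Cfsg.Agent.Lib.Helper17.Symp

set_option autoImplicit false

universe u

namespace Cfsg.Agent.Lib.Helper11.PGB

open Module LinearMap Cfsg.Agent.Lib.Helper48 Cfsg.Agent.Lib.Helper99.PGB

/-- ONE -/
theorem OR_one (F : Type u) [Field F] (d : ℕ) : OR F d 1 := by
  refine ⟨Fin d → F, inferInstance, inferInstance, inferInstance,
    Matrix.toBilin' (1 : Matrix (Fin d) (Fin d) F), 1, by simp, ?_, ?_, ?_, ?_⟩
  · intro x y
    simp [Matrix.toBilin'_apply', dotProduct_comm]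
  · intro x hx
    apply dotProduct_eq_zero_iff.mp
    intro y
    have := hx y
    simpa [Matrix.toBilin'_apply'] using this
  · intro x w
    rfl
  · intro j
    simp

theorem AR_one (F : Type u) [Field F] (d : ℕ) : AR F (2 * d) 1 := by
  refine ⟨Fin d ⊕ Fin d → F, inferInstance, inferInstance, inferInstance,
    Cfsg.Agent.Lib.Helper17.sympB d F, 1, by simp [two_mul], ?_, ?_, ?_, ?_⟩
  · intro x
    rw [Cfsg.Agent.Lib.Helper17.sympB_apply, Cfsg.Agent.Lib.Helper17.sympForm_eq_sum]
    apply Finset.sum_eq_zero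
    intro i _
    ring
  · intro x hx
    funext i
    rcases i with i | i
    · have := hx (Pi.single (Sum.inr i) 1)
      rw [Cfsg.Agent.Lib.Helper17.sympB_apply, Cfsg.Agent.Lib.Helper17.sympForm_eq_sum] at this
      simpa [Pi.single_apply] using this
    · have := hx (Pi.single (Sum.inl i) 1)
      rw [Cfsg.Agent.Lib.Helper17.sympB_apply, Cfsg.Agent.Lib.Helper17.sympForm_eq_sum] at this
      simpa [Pi.single_apply] using this
  · intro x w
    rfl
  · intro j
    simp

end Cfsg.Agent.Lib.Helper11.PGB
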