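import Mathlib
import Cfsg.Agent.Lib.Helper99.PGB.Defs
import Cfsg.Agent.Lib.Helper48.SpProj

set_option autoImplicit false

universe u

namespace Cfsg.Agent.Lib.Helper11.PGB

open Module LinearMap Cfsg.Agent.Lib.Helper48 Cfsg.Agent.Lib.Helper99.PGB

/-- PSP -/
theorem psp_of_AR {F : Type u} [Field F] [Fintype F] {n K : ℕ} (hK : Odd K)
    (h : AR F (2 * n) K) : ∃ y : Cfsg.PSp n F, orderOf y = K := by
  obtain ⟨V, _, _, _, S, T, hd, hs, hn, hi, ho⟩ := h
  obtain ⟨A, hA⟩ := exists_sp_of_isoB S hs hn hd T hi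
  refine ⟨QuotientGroup.mk A, ?_⟩
  apply Nat.dvd_antisymm
  · rw [orderOf_mk_sp_dvd_iff]
    left
    rw [(hA _).1, ho]
  · have h1 := (orderOf_mk_sp_dvd_iff A (orderOf (QuotientGroup.mk A : Cfsg.PSp n F))).1 dvd_rfl
    rcases h1 with h1 | h1
    · exact (ho _).1 ((hA _).1.1 h1)
    · have h2 := (hA _).2.1 h1
      have h3 : T ^ (2 * orderOf (QuotientGroup.mk A : Cfsg.PSp n F)) = 1 := by
        rw [mul_comm, pow_mul, h2]
        simp
      have h4 := (ho _).1 h3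
      exact (Nat.Coprime.dvd_of_dvd_mul_left (Nat.Coprime.symm (Nat.coprime_two_left.mpr hK)) h4)

end Cfsg.Agent.Lib.Helper11.PGB
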