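import Mathlib
import Cfsg.Agent.Lib.Helper99.PGB.Defs
import Cfsg.Agent.Lib.Helper48.SpSpec2

set_option autoImplicit false

universe u

namespace Cfsg.Agent.Lib.Helper11.PGB

open Module LinearMap Cfsg.Agent.Lib.Helper48 Cfsg.Agent.Lib.Helper99.PGB

theorem tor_exists_of_dvd {G : Type*} [Group G] [Finite G] {y : G} {m : ℕ} (hm : 0 < m)
    (h : m ∣ orderOf y) : ∃ z : G, orderOf z = m := by
  obtain ⟨c, hc⟩ := h
  have hpos : 0 < orderOf y := orderOf_pos y
  have hc0 : c ≠ 0 := by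
    rintro rfl
    rw [mul_zero] at hc
    omega
  refine ⟨y ^ c, ?_⟩
  rw [orderOf_pow_of_dvd hc0 ⟨m, by rw [hc, mul_comm]⟩, hc]
  exact Nat.mul_div_cancel _ (Nat.pos_of_ne_zero hc0)

/-- TOR -/
theorem psp_of_torus {F : Type*} [Field F] [Fintype F] (h2 : (2 : F) ≠ 0) {n r : ℕ} (hn : 1 ≤ n)
    (hr : 0 < r)
    (h : 4 * r ∣ Fintype.card F ^ n - 1 ∨ 4 * r ∣ Fintype.card F ^ n + 1) :
    ∃ y : Cfsg.PSp n F, orderOf y = 2 * r := by
  classical
  have hfin : Finite (Cfsg.PSp n F) := by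
    unfold Cfsg.PSp
    infer_instance
  obtain ⟨X, hX⟩ := (card_odd (F := F) h2).pow (n := n)
  rcases h with h | h
  · obtain ⟨y, hy⟩ := exists_PSp_minus (F := F) n hn hX
    apply tor_exists_of_dvd (y := y) (by omega)
    refine dvd_trans ?_ hy
    rw [hX] at h
    obtain ⟨c, hc⟩ := h
    exact ⟨c, by
      have : 2 * X = 2 * (2 * r * c) := by
        rw [← mul_assoc, ← mul_assoc]
        have e : 2 * 2 * r * c = 4 * r * c := by ring
        omega
      omega⟩
  · obtain ⟨y, hy⟩ := exists_PSp_plus (F := F) h2 n hn hX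
    apply tor_exists_of_dvd (y := y) (by omega)
    refine dvd_trans ?_ hy
    rw [hX] at h
    obtain ⟨c, hc⟩ := h
    exact ⟨c, by
      have : 2 * (X + 1) = 2 * (2 * r * c) := by
        rw [← mul_assoc, ← mul_assoc]
        have e : 2 * 2 * r * c = 4 * r * c := by ring
        omega
      omega⟩

end Cfsg.Agent.Lib.Helper11.PGB
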