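import Mathlib
import Cfsg.Agent.Lib.Helper99.PGB.Defs

set_option autoImplicit false

universe u

namespace Cfsg.Agent.Lib.Helper11.PGB

open Module LinearMap Cfsg.Agent.Lib.Helper48 Cfsg.Agent.Lib.Helper99.PGB

theorem uni_pow (F : Type u) [Field F] (j : ℕ) :
    (!![1, -1, -2; 0, 1, 0; 0, 1, 1] : Matrix (Fin 3) (Fin 3) F) ^ j =
      !![1, -(j : F) ^ 2, -2 * (j : F); 0, 1, 0; 0, (j : F), 1] := by
  induction j with
  | zero =>
    ext a b
    fin_cases a <;> fin_cases b <;> simp
  | succ j ih =>
    rw [pow_succ, ih]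
    ext a b
    fin_cases a <;> fin_cases b <;> simp [Matrix.mul_apply, Fin.sum_univ_three] <;> ring

/-- UNI -/
theorem OR_three_p (F : Type u) [Field F] (p : ℕ) [Fact p.Prime] [CharP F p] (h2 : (2 : F) ≠ 0) :
    OR F 3 p := by
  set M : Matrix (Fin 3) (Fin 3) F := !![1, -1, -2; 0, 1, 0; 0, 1, 1] with hM
  set A : Matrix (Fin 3) (Fin 3) F := !![0, 1, 0; 1, 0, 0; 0, 0, 2] with hA
  refine ⟨Fin 3 → F, inferInstance, inferInstance, inferInstance,
    Matrix.toBilin' A, Matrix.toLin' M, by simp, ?_, ?_, ?_, ?_⟩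
  · intro x y
    simp [Matrix.toBilin'_apply', hA, dotProduct, Fin.sum_univ_three, Matrix.mulVec]
    ring
  · intro x hx
    have h0 := hx (Pi.single 0 1)
    have h1 := hx (Pi.single 1 1)
    have h3 := hx (Pi.single 2 1)
    simp [Matrix.toBilin'_apply', hA, dotProduct, Fin.sum_univ_three, Matrix.mulVec] at h0 h1 h3
    funext i
    fin_cases i
    · simpa using h1
    · simpa using h0
    · rcases h3 with h3 | h3
      · simpa using h3
      · exact absurd h3 h2
  · intro x w
    simp [Matrix.toBilin'_apply', hA, hM, dotProduct, Fin.sum_univ_three, Matrix.mulVec]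
    ring
  · intro j
    rw [← Matrix.toLin'_pow, hM, uni_pow, ← CharP.cast_eq_zero_iff F p j]
    constructor
    · intro h
      have h1 := congrArg (fun f : End F (Fin 3 → F) => f (Pi.single 1 1) 2) h
      simpa [Matrix.mulVec, dotProduct, Fin.sum_univ_three] using h1
    · intro h
      rw [h]
      apply LinearMap.ext
      intro x
      funext i
      fin_cases i <;> simp [Matrix.mulVec, dotProduct, Fin.sum_univ_three]

end Cfsg.Agent.Lib.Helper11.PGB
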