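import Mathlib
import Cfsg.Agent.Lib.Helper99.SP8.Defs

set_option autoImplicit false

universe u

namespace Cfsg.Agent.Lib.Helper11.SP8

open Module LinearMap QuadraticMap Cfsg.Agent.Lib.Helper99.SP8

theorem hyp_cnt_b {F : Type*} [Field F] [Fintype F] [DecidableEq F] (a s : F) :
    (Finset.univ.filter (fun b : F => a * b + s = 0)).card =
      if a = 0 then (if s = 0 then Fintype.card F else 0) else 1 := by
  by_cases ha : a = 0
  · subst ha
    by_cases hs : s = 0
    · simp [hs, Finset.card_univ]
    · simp [hs]
  · simp only [ha, if_false]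
    rw [Finset.card_eq_one]
    refine ⟨-s / a, ?_⟩
    ext b
    simp only [Finset.mem_filter, Finset.mem_univ, true_and, Finset.mem_singleton]
    constructor
    · intro h
      field_simp
      linear_combination h
    · rintro rfl
      field_simp
      ring

theorem hyp_cnt_ab {F : Type*} [Field F] [Fintype F] [DecidableEq F] (s : F) :
    (Finset.univ.filter (fun p : F × F => p.1 * p.2 + s = 0)).card =
      (Fintype.card F - 1) + if s = 0 then Fintype.card F else 0 := by
  rw [Finset.card_filter, Fintype.sum_prod_type]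
  have h1 : ∀ a : F, (∑ b : F, if a * b + s = 0 then 1 else 0) =
      (if a = 0 then (if s = 0 then Fintype.card F else 0) else 0) + (if a = 0 then 0 else 1) := by
    intro a
    rw [← Finset.card_filter, hyp_cnt_b]
    by_cases ha : a = 0 <;> simp [ha]
  simp only [h1]
  rw [Finset.sum_add_distrib, Finset.sum_ite_eq' Finset.univ (0 : F)]
  simp only [Finset.mem_univ, if_true]
  have h2 : (∑ a : F, if a = 0 then 0 else 1) = Fintype.card F - 1 := by
    have : (∑ a : F, if a = 0 then 0 else 1) = (Finset.univ.filter (fun a : F => ¬ a = 0)).card := by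
      rw [Finset.card_filter]
      apply Finset.sum_congr rfl
      intro a _
      by_cases ha : a = 0 <;> simp [ha]
    rw [this, Finset.filter_ne' Finset.univ (0 : F), Finset.card_erase_of_mem (Finset.mem_univ _),
      Finset.card_univ]
  rw [h2, add_comm]

theorem hyp_polar {F V : Type*} [Field F] [AddCommGroup V] [Module F V] (Q : QuadraticForm F V)
    (a b a' b' : F) (x y : V) :
    polar (hypQ Q) ((a, b), x) ((a', b'), y) = a * b' + a' * b + polar Q x y := by
  simp only [QuadraticMap.polar, Prod.mk_add_mk, hypQ_apply]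
  ring

theorem hyp_count {F V : Type*} [Field F] [Fintype F] [AddCommGroup V] [Module F V]
    [FiniteDimensional F V] (Q : QuadraticForm F V) :
    Nat.card {v : (F × F) × V // hypQ Q v = 0} =
      Nat.card V * (Fintype.card F - 1) + Fintype.card F * Nat.card {v : V // Q v = 0} := by
  classical
  have : Finite V := Module.finite_of_finite F
  have : Fintype V := Fintype.ofFinite V
  rw [Nat.card_eq_fintype_card, Nat.card_eq_fintype_card, Nat.card_eq_fintype_card,
    Fintype.card_subtype, Fintype.card_subtype, Finset.card_filter, Fintype.sum_prod_type_right]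
  have h1 : ∀ x : V, (∑ p : F × F, if hypQ Q (p, x) = 0 then 1 else 0) =
      (Fintype.card F - 1) + if Q x = 0 then Fintype.card F else 0 := by
    intro x
    rw [← hyp_cnt_ab (Q x), Finset.card_filter]
    rfl
  simp only [h1]
  rw [Finset.sum_add_distrib, Finset.sum_const, Finset.card_univ, smul_eq_mul,
    ← Finset.sum_filter, Finset.sum_const, smul_eq_mul, mul_comm (Finset.card _)]

theorem isTyp_hyp {F V : Type*} [Field F] [Fintype F] [AddCommGroup V] [Module F V]
    [FiniteDimensional F V] (Q : QuadraticForm F V) {c : ℕ} {ε : Bool} (h : IsTyp Q c ε) :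
    IsTyp (hypQ Q) (c + 1) ε := by
  obtain ⟨hdim, hnd, hcnt⟩ := h
  refine ⟨?_, ?_, ?_⟩
  · rw [Module.finrank_prod, Module.finrank_prod, hdim, Module.finrank_self]
    ring
  · rintro ⟨⟨a, b⟩, x⟩ hx
    have h1 := hx ((0, 1), 0)
    have h2 := hx ((1, 0), 0)
    rw [hyp_polar] at h1 h2
    simp only [polar_zero_right] at h1 h2
    have ha : a = 0 := by simpa using h1
    have hb : b = 0 := by simpa using h2
    have hx0 : x = 0 := by
      apply hnd
      intro y
      have h3 := hx ((0, 0), y)
      rw [hyp_polar] at h3
      simpa using h3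
    rw [ha, hb, hx0]
    rfl
  · have hV : Nat.card V = Fintype.card F ^ (2 * c) := by
      rw [Module.natCard_eq_pow_finrank (K := F), hdim, Nat.card_eq_fintype_card]
    have hN := hyp_count Q
    rw [hV] at hN
    obtain ⟨r, hr⟩ : ∃ r, Fintype.card F = r + 1 :=
      ⟨Fintype.card F - 1, by have := Fintype.card_pos (α := F); omega⟩
    have hr' : Fintype.card F - 1 = r := by omega
    rw [hr'] at hN
    set q := Fintype.card F with hq
    set N := Nat.card {v : V // Q v = 0} with hNdef
    cases ε with
    | true =>
      simp only [cond_true] at hcnt ⊢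
      rw [hN]
      calc q * (q ^ (2 * c) * r + q * N) + q ^ (c + 1)
          = q * (q ^ (2 * c) * r) + q * (q * N + q ^ c) := by ring
        _ = q * (q ^ (2 * c) * r) + q * (q ^ (2 * c) + q ^ (c + 1)) := by rw [hcnt]
        _ = q ^ (2 * c) * q * (r + 1) + q ^ (c + 1 + 1) := by ring
        _ = q ^ (2 * (c + 1)) + q ^ (c + 1 + 1) := by rw [← hr]; ring
    | false =>
      simp only [cond_false] at hcnt ⊢
      rw [hN]
      calc q * (q ^ (2 * c) * r + q * N) + q ^ (c + 1 + 1)
          = q * (q ^ (2 * c) * r) + q * (q * N + q ^ (c + 1)) := by ring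
        _ = q * (q ^ (2 * c) * r) + q * (q ^ (2 * c) + q ^ c) := by rw [hcnt]
        _ = q ^ (2 * c) * q * (r + 1) + q ^ (c + 1) := by ring
        _ = q ^ (2 * (c + 1)) + q ^ (c + 1) := by rw [← hr]; ring

end Cfsg.Agent.Lib.Helper11.SP8
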