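import Mathlib
import Cfsg.Agent.Lib.Helper99.SP8.Defs
import Cfsg.Agent.Lib.Helper11.SP8HYP

set_option autoImplicit false

universe u

namespace Cfsg.Agent.Lib.Helper11.SP8

open Module LinearMap QuadraticMap Cfsg.Agent.Lib.Helper99.SP8

theorem jbase_noroot (F : Type*) [Field F] [Finite F] : ∃ ζ : F, ∀ t : F, t ^ 2 + t + ζ ≠ 0 := by
  have hni : ¬ Function.Injective (fun t : F => t ^ 2 + t) := by
    intro h
    have : (0 : F) = -1 := h (by simp)
    have h1 : (1 : F) = 0 := by linear_combination this
    exact one_ne_zero h1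
  have hns : ¬ Function.Surjective (fun t : F => t ^ 2 + t) :=
    fun h => hni (Finite.injective_iff_surjective.2 h)
  rw [Function.Surjective] at hns
  push Not at hns
  obtain ⟨b, hb⟩ := hns
  refine ⟨-b, fun t ht => hb t ?_⟩
  linear_combination ht

theorem jbase_plus (F : Type u) [Field F] [Fintype F] [CharP F 2] : QJ F true 1 := by
  classical
  have h2 : (2 : F) = 0 := CharTwo.two_eq_zero
  let Q : QuadraticForm F (F × F) :=
    QuadraticMap.linMulLin (LinearMap.fst F F F) (LinearMap.snd F F F)
  have hQ : ∀ x y : F, Q (x, y) = x * y := fun x y => rfl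
  let T : End F (F × F) := (LinearMap.snd F F F).prod (LinearMap.fst F F F)
  have hT : ∀ x y : F, T (x, y) = (y, x) := fun x y => rfl
  have hpol : ∀ x y x' y' : F, polar Q (x, y) (x', y') = x * y' + x' * y := by
    intro x y x' y'
    simp only [QuadraticMap.polar, Prod.mk_add_mk, hQ]
    ring
  have hN1 : ∀ x y : F, (T - 1) (x, y) = (y - x, x - y) := fun x y => rfl
  refine ⟨F × F, inferInstance, inferInstance, inferInstance, Q, T, ⟨?_, ?_, ?_⟩, ?_, ?_, ?_⟩
  · rw [Module.finrank_prod, Module.finrank_self]
  · rintro ⟨x, y⟩ h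
    have h1 := h (0, 1)
    have h3 := h (1, 0)
    rw [hpol] at h1 h3
    have hx : x = 0 := by simpa using h1
    have hy : y = 0 := by simpa using h3
    rw [hx, hy]
    rfl
  · simp only [cond_true]
    have hN : Nat.card {v : F × F // Q v = 0} = (Fintype.card F - 1) + Fintype.card F := by
      rw [Nat.card_eq_fintype_card, Fintype.card_subtype]
      have := hyp_cnt_ab (0 : F)
      simp only [add_zero, if_true] at this
      rw [← this]
      rfl
    rw [hN]
    obtain ⟨r, hr⟩ : ∃ r, Fintype.card F = r + 1 :=
      ⟨Fintype.card F - 1, by have := Fintype.card_pos (α := F); omega⟩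
    rw [hr]
    simp only [Nat.add_sub_cancel]
    ring
  · rintro ⟨x, y⟩
    rw [hT, hQ, hQ, mul_comm]
  · apply LinearMap.ext
    rintro ⟨x, y⟩
    rw [pow_two, Module.End.mul_apply, hN1, hN1, LinearMap.zero_apply]
    apply Prod.ext
    · show x - y - (y - x) = 0
      linear_combination (x - y) * h2
    · show y - x - (x - y) = 0
      linear_combination (y - x) * h2
  · intro h
    have := congrArg (fun f : End F (F × F) => (f (1, 0)).1) h
    simp only [Nat.reduceMul, Nat.add_one_sub_one, pow_one, hN1, LinearMap.zero_apply,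
      Prod.fst_zero] at this
    simp at this

theorem jbase_minus (F : Type u) [Field F] [Fintype F] [CharP F 2] : QJ F false 1 := by
  classical
  have h2 : (2 : F) = 0 := CharTwo.two_eq_zero
  obtain ⟨ζ, hζ⟩ := jbase_noroot F
  let Q : QuadraticForm F (F × F) :=
    QuadraticMap.linMulLin (LinearMap.fst F F F) (LinearMap.fst F F F) +
      QuadraticMap.linMulLin (LinearMap.fst F F F) (LinearMap.snd F F F) +
      ζ • QuadraticMap.linMulLin (LinearMap.snd F F F) (LinearMap.snd F F F)
  have hQ : ∀ x y : F, Q (x, y) = x * x + x * y + ζ * (y * y) := fun x y => rfl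
  let T : End F (F × F) := (LinearMap.fst F F F + LinearMap.snd F F F).prod (LinearMap.snd F F F)
  have hT : ∀ x y : F, T (x, y) = (x + y, y) := fun x y => rfl
  have hpol : ∀ x y x' y' : F, polar Q (x, y) (x', y') = x * y' + x' * y := by
    intro x y x' y'
    simp only [QuadraticMap.polar, Prod.mk_add_mk, hQ]
    linear_combination (x * x' + ζ * y * y') * h2
  have hN1 : ∀ x y : F, (T - 1) (x, y) = (x + y - x, y - y) := fun x y => rfl
  have han : ∀ v : F × F, Q v = 0 ↔ v = 0 := by
    rintro ⟨x, y⟩
    constructor
    · intro h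
      rw [hQ] at h
      by_cases hy : y = 0
      · subst hy
        have hx : x = 0 := by
          have : x * x = 0 := by linear_combination h
          exact mul_self_eq_zero.1 this
        rw [hx]
        rfl
      · exfalso
        apply hζ (x / y)
        field_simp
        linear_combination h
    · intro h
      rw [h]
      exact map_zero Q
  refine ⟨F × F, inferInstance, inferInstance, inferInstance, Q, T, ⟨?_, ?_, ?_⟩, ?_, ?_, ?_⟩
  · rw [Module.finrank_prod, Module.finrank_self]
  · rintro ⟨x, y⟩ h
    have h1 := h (0, 1)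
    have h3 := h (1, 0)
    rw [hpol] at h1 h3
    have hx : x = 0 := by simpa using h1
    have hy : y = 0 := by simpa using h3
    rw [hx, hy]
    rfl
  · simp only [cond_false]
    have hN : Nat.card {v : F × F // Q v = 0} = 1 := by
      rw [Nat.card_eq_one_iff_unique]
      refine ⟨⟨?_⟩, ⟨⟨0, map_zero Q⟩⟩⟩
      rintro ⟨a, ha⟩ ⟨b, hb⟩
      apply Subtype.ext
      exact ((han a).1 ha).trans ((han b).1 hb).symm
    rw [hN]
    ring
  · rintro ⟨x, y⟩
    rw [hT, hQ, hQ]
    linear_combination (y * y + x * y) * h2
  · apply LinearMap.ext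
    rintro ⟨x, y⟩
    rw [pow_two, Module.End.mul_apply, hN1, hN1, LinearMap.zero_apply]
    apply Prod.ext
    · show x + y - x + (y - y) - (x + y - x) = 0
      ring
    · show y - y - (y - y) = 0
      ring
  · intro h
    have := congrArg (fun f : End F (F × F) => (f (0, 1)).1) h
    simp only [Nat.reduceMul, Nat.add_one_sub_one, pow_one, hN1, LinearMap.zero_apply,
      Prod.fst_zero] at this
    simp at this

theorem QJ_one (F : Type u) [Field F] [Fintype F] [CharP F 2] (ε : Bool) : QJ F ε 1 := by
  cases ε with
  | true => exact jbase_plus F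
  | false => exact jbase_minus F

end Cfsg.Agent.Lib.Helper11.SP8
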