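import Mathlib
import Cfsg.Agent.Lib.Helper99.SP8.Defs

set_option autoImplicit false

universe u

namespace Cfsg.Agent.Lib.Helper11.SP8

open Module LinearMap QuadraticMap Cfsg.Agent.Lib.Helper99.SP8

theorem jord_two {F V : Type*} [Field F] [CharP F 2] [AddCommGroup V] [Module F V] :
    (2 : End F V) = 0 := by
  have h : (2 : F) = 0 := CharTwo.two_eq_zero
  have : (2 : End F V) = algebraMap F (End F V) 2 := (map_ofNat (algebraMap F (End F V)) 2).symm
  rw [this, h, map_zero]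

theorem jord_pow {F V : Type*} [Field F] [CharP F 2] [AddCommGroup V] [Module F V]
    (T : End F V) (i : ℕ) : (T - 1) ^ (2 ^ i) = T ^ (2 ^ i) - 1 := by
  induction i with
  | zero => simp
  | succ i ih =>
    rw [pow_succ, pow_mul, ih, pow_mul]
    have h2 : (2 : End F V) = 0 := jord_two
    have : (T ^ 2 ^ i - 1) ^ 2 = (T ^ 2 ^ i) ^ 2 - 1 - 2 * (T ^ 2 ^ i - 1) := by
      noncomm_ring
    rw [this, h2, zero_mul, sub_zero]

theorem QT_of_QJ {F : Type u} [Field F] [Fintype F] [CharP F 2] {ε : Bool} {c b : ℕ}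
    (h : QJ F ε c) (h1 : 2 * c ≤ 2 ^ b) (h2 : 2 ^ b < 4 * c) : QT F ε c (2 ^ b) := by
  obtain ⟨V, i1, i2, i3, Q, T, hTyp, hiso, hz, hnz⟩ := h
  refine ⟨V, i1, i2, i3, Q, T, hTyp, hiso, ?_⟩
  have hTb : T ^ (2 ^ b) = 1 := by
    have : (T - 1) ^ (2 ^ b) = 0 := by
      obtain ⟨k, hk⟩ := Nat.exists_eq_add_of_le h1
      rw [hk, pow_add, hz, zero_mul]
    rw [jord_pow] at this
    exact sub_eq_zero.1 this
  have hdvd : orderOf T ∣ 2 ^ b := orderOf_dvd_of_pow_eq_one hTb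
  obtain ⟨i, hib, hi⟩ := (Nat.dvd_prime_pow Nat.prime_two).1 hdvd
  have hib' : i = b := by
    by_contra hne
    have hlt : i < b := lt_of_le_of_ne hib hne
    have h3 : T ^ (2 ^ i) = 1 := by rw [← hi]; exact pow_orderOf_eq_one T
    have h4 : (T - 1) ^ (2 ^ i) = 0 := by rw [jord_pow, h3, sub_self]
    have h5 : 2 ^ i ≤ 2 * c - 1 := by
      have h6 : 2 ^ (i + 1) ≤ 2 ^ b := Nat.pow_le_pow_right (by norm_num) hlt
      rw [pow_succ] at h6
      omega
    obtain ⟨k, hk⟩ := Nat.exists_eq_add_of_le h5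
    apply hnz
    rw [hk, pow_add, h4, zero_mul]
  intro j
  rw [← hib', ← hi]
  exact (orderOf_dvd_iff_pow_eq_one).symm

end Cfsg.Agent.Lib.Helper11.SP8
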