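import Mathlib
import Cfsg.Agent.Lib.Helper99.SP8.Defs
import Cfsg.Agent.Lib.Helper11.SP8HYP

set_option autoImplicit false

universe u

namespace Cfsg.Agent.Lib.Helper11.SP8

open Module LinearMap QuadraticMap Cfsg.Agent.Lib.Helper99.SP8

theorem jstep_polar_iso {F W : Type*} [Field F] [AddCommGroup W] [Module F W]
    (Q : QuadraticForm F W) (t : End F W) (ht : ∀ v, Q (t v) = Q v) (x y : W) :
    QuadraticMap.polar Q (t x) (t y) = QuadraticMap.polar Q x y := by
  simp only [QuadraticMap.polar, ← map_add, ht]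

theorem jstep_ne {F W : Type*} [Field F] [AddCommGroup W] [Module F W] [FiniteDimensional F W]
    (Q : QuadraticForm F W) (hnd : ∀ x, (∀ y, QuadraticMap.polar Q x y = 0) → x = 0)
    (t : End F W) (ht : ∀ v, Q (t v) = Q v) {d : ℕ} (hdim : finrank F W = d + 1)
    (hz : (t - 1) ^ (d + 1) = 0) (w : W) (ha : ((t - 1) ^ d) w ≠ 0) :
    QuadraticMap.polar Q (((t - 1) ^ d) w) w ≠ 0 := by
  set n : End F W := t - 1 with hn
  set a : W := (n ^ d) w with hadef
  have hna : n a = 0 := by
    have : n a = (n ^ (d + 1)) w := by rw [pow_succ', Module.End.mul_apply]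
    rw [this, hz, LinearMap.zero_apply]
  have hta : t a = a := by
    have : n a = t a - a := rfl
    rw [this] at hna
    exact sub_eq_zero.1 hna
  have hperp : ∀ y, QuadraticMap.polar Q a (n y) = 0 := by
    intro y
    have h1 : n y = t y - y := rfl
    rw [h1, QuadraticMap.polar_sub_right]
    have h2 := jstep_polar_iso Q t ht a y
    rw [hta] at h2
    rw [h2, sub_self]
  intro h0
  let U : Submodule F W := LinearMap.ker (QuadraticMap.polarBilin Q a)
  have hUmem : ∀ y, y ∈ U ↔ QuadraticMap.polar Q a y = 0 := by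
    intro y
    rw [LinearMap.mem_ker, QuadraticMap.polarBilin_apply_apply]
  have hU : ∀ y ∈ U, n y ∈ U := fun y _ => (hUmem _).2 (hperp y)
  have hne : U ≠ ⊤ := by
    intro h
    apply ha
    apply hnd
    intro y
    exact (hUmem y).1 (h ▸ Submodule.mem_top)
  have hlt : finrank F U < finrank F W := Submodule.finrank_lt hne
  have hle : finrank F U ≤ d := by omega
  have hpow : ∀ (k : ℕ) (y : U), ((((n.restrict hU) ^ k) y : U) : W) = (n ^ k) (y : W) := by
    intro k y
    rw [Module.End.pow_restrict k hU]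
    rfl
  have hz' : (n.restrict hU) ^ (d + 1) = 0 := by
    ext y
    rw [hpow, hz]
    rfl
  have h1 : (n.restrict hU) ^ finrank F U = 0 := by
    have := Module.End.ker_pow_le_ker_pow_finrank (n.restrict hU) (d + 1)
    rw [hz', LinearMap.ker_zero, top_le_iff, LinearMap.ker_eq_top] at this
    exact this
  have h2 : (n.restrict hU) ^ d = 0 := by
    obtain ⟨k, hk⟩ := Nat.exists_eq_add_of_le hle
    rw [hk, pow_add, h1, zero_mul]
  have h3 := congrArg (fun f : End F U => ((f ⟨w, (hUmem w).2 h0⟩ : U) : W)) h2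
  simp only [hpow, LinearMap.zero_apply, ZeroMemClass.coe_zero] at h3
  exact ha h3

/-- the extended unipotent isometry -/
noncomputable def jstepT {F W : Type*} [Field F] [AddCommGroup W] [Module F W]
    (Q : QuadraticForm F W) (t : End F W) (w : W) : End F ((F × F) × W) where
  toFun v := ((v.1.1 + QuadraticMap.polar Q (t v.2) w + v.1.2 * Q w, v.1.2), t v.2 + v.1.2 • w)
  map_add' u v := by
    apply Prod.ext
    · apply Prod.ext
      · simp only [Prod.fst_add, Prod.snd_add, map_add, QuadraticMap.polar_add_left]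
        ring
      · simp only [Prod.fst_add, Prod.snd_add]
    · simp only [Prod.fst_add, Prod.snd_add, map_add, add_smul]
      abel
  map_smul' r v := by
    apply Prod.ext
    · apply Prod.ext
      · simp only [Prod.smul_fst, Prod.smul_snd, map_smul, QuadraticMap.polar_smul_left,
          smul_eq_mul, RingHom.id_apply]
        ring
      · simp only [Prod.smul_fst, Prod.smul_snd, RingHom.id_apply]
    · simp only [Prod.smul_fst, Prod.smul_snd, map_smul, smul_eq_mul, RingHom.id_apply, smul_add,
        mul_smul]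

theorem jstepT_apply {F W : Type*} [Field F] [AddCommGroup W] [Module F W]
    (Q : QuadraticForm F W) (t : End F W) (w : W) (α β : F) (x : W) :
    jstepT Q t w ((α, β), x) = ((α + QuadraticMap.polar Q (t x) w + β * Q w, β), t x + β • w) := rfl

theorem jstepN_apply {F W : Type*} [Field F] [AddCommGroup W] [Module F W]
    (Q : QuadraticForm F W) (t : End F W) (w : W) (α β : F) (x : W) :
    (jstepT Q t w - 1) ((α, β), x) =
      ((QuadraticMap.polar Q (t x) w + β * Q w, 0), (t - 1) x + β • w) := by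
  rw [LinearMap.sub_apply, jstepT_apply, Module.End.one_apply]
  apply Prod.ext
  · apply Prod.ext
    · show α + QuadraticMap.polar Q (t x) w + β * Q w - α = _
      ring
    · show β - β = 0
      ring
  · show t x + β • w - x = t x - x + β • w
    abel

theorem jstepN_pow {F W : Type*} [Field F] [AddCommGroup W] [Module F W]
    (Q : QuadraticForm F W) (t : End F W) (w : W) (k : ℕ) (α : F) (x : W) :
    ∃ γ : F, ((jstepT Q t w - 1) ^ k) ((α, 0), x) = ((γ, 0), ((t - 1) ^ k) x) := by
  induction k with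
  | zero => exact ⟨α, rfl⟩
  | succ k ih =>
    obtain ⟨γ, hγ⟩ := ih
    refine ⟨QuadraticMap.polar Q (t (((t - 1) ^ k) x)) w + 0 * Q w, ?_⟩
    rw [pow_succ', Module.End.mul_apply, hγ, jstepN_apply, zero_smul, add_zero, pow_succ',
      Module.End.mul_apply]

theorem QJ_succ {F : Type u} [Field F] [Fintype F] [CharP F 2] {ε : Bool} {c : ℕ} (hc : 1 ≤ c)
    (h : QJ F ε c) : QJ F ε (c + 1) := by
  obtain ⟨W, i1, i2, i3, Q, t, hTyp, hiso, hz, hnz⟩ := h
  have h2 : (2 : F) = 0 := CharTwo.two_eq_zero
  obtain ⟨d, hd⟩ : ∃ d, 2 * c = d + 1 := ⟨2 * c - 1, by omega⟩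
  have hd' : 2 * c - 1 = d := by omega
  rw [hd] at hz
  rw [hd'] at hnz
  obtain ⟨w, hw⟩ : ∃ w, ((t - 1) ^ d) w ≠ 0 := by
    by_contra hcon
    push Not at hcon
    exact hnz (LinearMap.ext hcon)
  have hne := jstep_ne Q hTyp.2.1 t hiso (hTyp.1.trans hd) hz w hw
  have hta : t (((t - 1) ^ d) w) = ((t - 1) ^ d) w := by
    have h1 : (t - 1) (((t - 1) ^ d) w) = 0 := by
      rw [← Module.End.mul_apply, ← pow_succ', hz, LinearMap.zero_apply]
    exact sub_eq_zero.1 h1
  refine ⟨(F × F) × W, inferInstance, inferInstance, inferInstance, hypQ Q, jstepT Q t w,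
    isTyp_hyp Q hTyp, ?_, ?_, ?_⟩
  · rintro ⟨⟨α, β⟩, x⟩
    rw [jstepT_apply, hypQ_apply, hypQ_apply]
    have h1 : Q (t x + β • w) = Q x + β * β * Q w + β * QuadraticMap.polar Q (t x) w := by
      have := QuadraticMap.map_add Q (t x) (β • w)
      rw [this, hiso, QuadraticMap.map_smul, QuadraticMap.polar_smul_right, smul_eq_mul,
        smul_eq_mul]
    rw [h1]
    linear_combination (β * QuadraticMap.polar Q (t x) w + β * β * Q w) * h2
  · have e : 2 * (c + 1) = (d + 1) + 1 + 1 := by omega
    rw [e]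
    apply LinearMap.ext
    rintro ⟨⟨α, β⟩, x⟩
    rw [pow_succ', pow_succ, Module.End.mul_apply, Module.End.mul_apply,
      jstepN_apply Q t w α β x]
    obtain ⟨γ, hγ⟩ := jstepN_pow Q t w (d + 1) (QuadraticMap.polar Q (t x) w + β * Q w)
      ((t - 1) x + β • w)
    rw [hγ, hz, LinearMap.zero_apply, jstepN_apply]
    simp
  · have e : 2 * (c + 1) - 1 = d + 1 + 1 := by omega
    rw [e]
    intro hcon
    have h1 := congrArg (fun f : End F ((F × F) × W) => (f ((0, 1), 0)).1.1) hcon
    simp only [LinearMap.zero_apply] at h1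
    rw [pow_succ, Module.End.mul_apply, jstepN_apply Q t w 0 1 0, pow_succ',
      Module.End.mul_apply] at h1
    obtain ⟨γ, hγ⟩ := jstepN_pow Q t w d (QuadraticMap.polar Q (t 0) w + 1 * Q w)
      ((t - 1) 0 + (1 : F) • w)
    rw [hγ, jstepN_apply] at h1
    simp only [map_zero, zero_add, one_smul, hta, zero_mul, add_zero, Prod.fst_zero] at h1
    exact hne h1

end Cfsg.Agent.Lib.Helper11.SP8
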