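import Mathlib
import Cfsg.Agent.Lib.Helper99.SP8.Defs

set_option autoImplicit false

namespace Cfsg.Agent.Lib.Helper11.SP8

open Cfsg.Agent.Lib.Helper99.SP8

theorem num_inv {q n L : ℕ} (h : InL q n L) :
    (n = 0 ∧ L = 1) ∨ ∃ n' L' e, 1 ≤ e ∧ InL q n' L' ∧ n = n' + e ∧
      (L = Nat.lcm (q ^ e - 1) L' ∨ L = Nat.lcm (q ^ e + 1) L') := by
  cases h with
  | zero => exact Or.inl ⟨rfl, rfl⟩
  | minus he h => exact Or.inr ⟨_, _, _, he, h, rfl, Or.inl rfl⟩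
  | plus he h => exact Or.inr ⟨_, _, _, he, h, rfl, Or.inr rfl⟩

theorem num_facts {q : ℕ} (hq : 2 ≤ q) :
    (q - 1 ∣ q ^ 2 - 1) ∧ (q + 1 ∣ q ^ 2 - 1) ∧
    (q - 1 ∣ q ^ 4 - 1) ∧ (q + 1 ∣ q ^ 4 - 1) ∧ (q ^ 2 - 1 ∣ q ^ 4 - 1) ∧ (q ^ 2 + 1 ∣ q ^ 4 - 1) ∧
    ((q ^ 2 + 1) * (q - 1) ∣ q ^ 4 - 1) ∧ ((q ^ 2 + 1) * (q + 1) ∣ q ^ 4 - 1) ∧
    (q - 1 ∣ (q ^ 3 - 1) * (q + 1)) ∧ (q + 1 ∣ (q ^ 3 + 1) * (q - 1)) := by
  obtain ⟨r, rfl⟩ : ∃ r, q = r + 1 := ⟨q - 1, by omega⟩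
  have e1 : r + 1 - 1 = r := by omega
  have e2 : (r + 1) ^ 2 - 1 = r * (r + 2) := by
    have : (r + 1) ^ 2 = r * (r + 2) + 1 := by ring
    omega
  have e3 : (r + 1) ^ 3 - 1 = r * (r ^ 2 + 3 * r + 3) := by
    have : (r + 1) ^ 3 = r * (r ^ 2 + 3 * r + 3) + 1 := by ring
    omega
  have e4 : (r + 1) ^ 4 - 1 = r * (r + 2) * ((r + 1) ^ 2 + 1) := by
    have : (r + 1) ^ 4 = r * (r + 2) * ((r + 1) ^ 2 + 1) + 1 := by ring
    omega
  rw [e1, e2, e3, e4]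
  refine ⟨⟨r + 2, rfl⟩, ⟨r, by ring⟩, ⟨(r + 2) * ((r + 1) ^ 2 + 1), by ring⟩,
    ⟨r * ((r + 1) ^ 2 + 1), by ring⟩, ⟨(r + 1) ^ 2 + 1, rfl⟩, ⟨r * (r + 2), by ring⟩,
    ⟨r + 2, by ring⟩, ⟨r, by ring⟩, ⟨(r ^ 2 + 3 * r + 3) * (r + 1 + 1), by ring⟩,
    ⟨(r ^ 2 + r + 1) * r, by ring⟩⟩

theorem InL_zero {q L : ℕ} (h : InL q 0 L) : L ∣ 1 := by
  rcases num_inv h with ⟨-, rfl⟩ | ⟨n', L', e, he, -, hn, -⟩
  · exact dvd_rfl
  · omega

theorem InL_one {q L : ℕ} (h : InL q 1 L) : L ∣ q - 1 ∨ L ∣ q + 1 := by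
  rcases num_inv h with ⟨h0, -⟩ | ⟨n', L', e, he, h', hn, hL⟩
  · omega
  · obtain ⟨rfl, rfl⟩ : n' = 0 ∧ e = 1 := by omega
    have hL' := InL_zero h'
    rw [pow_one] at hL
    rcases hL with rfl | rfl
    · exact Or.inl (Nat.lcm_dvd dvd_rfl (hL'.trans (one_dvd _)))
    · exact Or.inr (Nat.lcm_dvd dvd_rfl (hL'.trans (one_dvd _)))

theorem InL_two {q L : ℕ} (hq : 2 ≤ q) (h : InL q 2 L) : L ∣ q ^ 2 - 1 ∨ L ∣ q ^ 2 + 1 := by
  obtain ⟨F1, F2, -⟩ := num_facts hq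
  rcases num_inv h with ⟨h0, -⟩ | ⟨n', L', e, he, h', hn, hL⟩
  · omega
  · obtain ⟨rfl, rfl⟩ | ⟨rfl, rfl⟩ : (n' = 0 ∧ e = 2) ∨ (n' = 1 ∧ e = 1) := by omega
    · have hL' := InL_zero h'
      rcases hL with rfl | rfl
      · exact Or.inl (Nat.lcm_dvd dvd_rfl (hL'.trans (one_dvd _)))
      · exact Or.inr (Nat.lcm_dvd dvd_rfl (hL'.trans (one_dvd _)))
    · rw [pow_one] at hL
      left
      rcases InL_one h' with hL' | hL' <;> rcases hL with rfl | rfl <;>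
        exact Nat.lcm_dvd (by assumption) (hL'.trans (by assumption))

theorem InL_three {q L : ℕ} (hq : 2 ≤ q) (h : InL q 3 L) :
    L ∣ q ^ 3 - 1 ∨ L ∣ q ^ 3 + 1 ∨ L ∣ (q ^ 2 + 1) * (q - 1) ∨ L ∣ (q ^ 2 + 1) * (q + 1) ∨
      L ∣ q ^ 2 - 1 := by
  obtain ⟨F1, F2, -⟩ := num_facts hq
  have F3 : q ^ 2 + 1 ∣ (q ^ 2 + 1) * (q - 1) := dvd_mul_right _ _
  have F4 : q - 1 ∣ (q ^ 2 + 1) * (q - 1) := dvd_mul_left _ _
  have F5 : q ^ 2 + 1 ∣ (q ^ 2 + 1) * (q + 1) := dvd_mul_right _ _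
  have F6 : q + 1 ∣ (q ^ 2 + 1) * (q + 1) := dvd_mul_left _ _
  rcases num_inv h with ⟨h0, -⟩ | ⟨n', L', e, he, h', hn, hL⟩
  · omega
  · obtain ⟨rfl, rfl⟩ | ⟨rfl, rfl⟩ | ⟨rfl, rfl⟩ :
        (n' = 0 ∧ e = 3) ∨ (n' = 1 ∧ e = 2) ∨ (n' = 2 ∧ e = 1) := by omega
    · have hL' := InL_zero h'
      rcases hL with rfl | rfl
      · exact Or.inl (Nat.lcm_dvd dvd_rfl (hL'.trans (one_dvd _)))
      · exact Or.inr (Or.inl (Nat.lcm_dvd dvd_rfl (hL'.trans (one_dvd _))))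
    · rcases InL_one h' with hL' | hL' <;> rcases hL with rfl | rfl
      all_goals first
        | exact Or.inr (Or.inr (Or.inl (Nat.lcm_dvd (by first | assumption | exact dvd_rfl)
            (hL'.trans (by first | assumption | exact dvd_rfl)))))
        | exact Or.inr (Or.inr (Or.inr (Or.inl (Nat.lcm_dvd (by first | assumption | exact dvd_rfl)
            (hL'.trans (by first | assumption | exact dvd_rfl))))))
        | exact Or.inr (Or.inr (Or.inr (Or.inr (Nat.lcm_dvd (by first | assumption | exact dvd_rfl)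
            (hL'.trans (by first | assumption | exact dvd_rfl))))))
    · rw [pow_one] at hL
      rcases InL_two hq h' with hL' | hL' <;> rcases hL with rfl | rfl
      all_goals first
        | exact Or.inr (Or.inr (Or.inl (Nat.lcm_dvd (by first | assumption | exact dvd_rfl)
            (hL'.trans (by first | assumption | exact dvd_rfl)))))
        | exact Or.inr (Or.inr (Or.inr (Or.inl (Nat.lcm_dvd (by first | assumption | exact dvd_rfl)
            (hL'.trans (by first | assumption | exact dvd_rfl))))))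
        | exact Or.inr (Or.inr (Or.inr (Or.inr (Nat.lcm_dvd (by first | assumption | exact dvd_rfl)
            (hL'.trans (by first | assumption | exact dvd_rfl))))))

theorem InL_four {q L : ℕ} (hq : 2 ≤ q) (h : InL q 4 L) :
    L ∣ q ^ 4 + 1 ∨ L ∣ q ^ 4 - 1 ∨ L ∣ (q ^ 3 - 1) * (q + 1) ∨ L ∣ (q ^ 3 + 1) * (q - 1) := by
  obtain ⟨F1, F2, G1, G2, G3, G4, G5, G6, H2, K2⟩ := num_facts hq
  have H1 : q ^ 3 - 1 ∣ (q ^ 3 - 1) * (q + 1) := dvd_mul_right _ _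
  have H3 : q + 1 ∣ (q ^ 3 - 1) * (q + 1) := dvd_mul_left _ _
  have K1 : q ^ 3 + 1 ∣ (q ^ 3 + 1) * (q - 1) := dvd_mul_right _ _
  have K3 : q - 1 ∣ (q ^ 3 + 1) * (q - 1) := dvd_mul_left _ _
  rcases num_inv h with ⟨h0, -⟩ | ⟨n', L', e, he, h', hn, hL⟩
  · omega
  · obtain ⟨rfl, rfl⟩ | ⟨rfl, rfl⟩ | ⟨rfl, rfl⟩ | ⟨rfl, rfl⟩ :
        (n' = 0 ∧ e = 4) ∨ (n' = 1 ∧ e = 3) ∨ (n' = 2 ∧ e = 2) ∨ (n' = 3 ∧ e = 1) := by omega
    · have hL' := InL_zero h'
      rcases hL with rfl | rfl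
      · exact Or.inr (Or.inl (Nat.lcm_dvd dvd_rfl (hL'.trans (one_dvd _))))
      · exact Or.inl (Nat.lcm_dvd dvd_rfl (hL'.trans (one_dvd _)))
    · rcases InL_one h' with hL' | hL' <;> rcases hL with rfl | rfl
      all_goals first
        | exact Or.inr (Or.inl (Nat.lcm_dvd (by first | assumption | exact dvd_rfl)
            (hL'.trans (by first | assumption | exact dvd_rfl))))
        | exact Or.inr (Or.inr (Or.inl (Nat.lcm_dvd (by first | assumption | exact dvd_rfl)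
            (hL'.trans (by first | assumption | exact dvd_rfl)))))
        | exact Or.inr (Or.inr (Or.inr (Nat.lcm_dvd (by first | assumption | exact dvd_rfl)
            (hL'.trans (by first | assumption | exact dvd_rfl)))))
    · rcases InL_two hq h' with hL' | hL' <;> rcases hL with rfl | rfl
      all_goals first
        | exact Or.inr (Or.inl (Nat.lcm_dvd (by first | assumption | exact dvd_rfl)
            (hL'.trans (by first | assumption | exact dvd_rfl))))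
        | exact Or.inr (Or.inr (Or.inl (Nat.lcm_dvd (by first | assumption | exact dvd_rfl)
            (hL'.trans (by first | assumption | exact dvd_rfl)))))
        | exact Or.inr (Or.inr (Or.inr (Nat.lcm_dvd (by first | assumption | exact dvd_rfl)
            (hL'.trans (by first | assumption | exact dvd_rfl)))))
    · rw [pow_one] at hL
      rcases InL_three hq h' with hL' | hL' | hL' | hL' | hL' <;> rcases hL with rfl | rfl
      all_goals first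
        | exact Or.inr (Or.inl (Nat.lcm_dvd (by first | assumption | exact dvd_rfl)
            (hL'.trans (by first | assumption | exact dvd_rfl))))
        | exact Or.inr (Or.inr (Or.inl (Nat.lcm_dvd (by first | assumption | exact dvd_rfl)
            (hL'.trans (by first | assumption | exact dvd_rfl)))))
        | exact Or.inr (Or.inr (Or.inr (Nat.lcm_dvd (by first | assumption | exact dvd_rfl)
            (hL'.trans (by first | assumption | exact dvd_rfl)))))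

end Cfsg.Agent.Lib.Helper11.SP8
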