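import Mathlib

set_option autoImplicit false

namespace Cfsg.Agent.Lib.Helper11.SP8

theorem parts_aux {M : Type*} [Monoid M] (T : M) {K A m x : ℕ} (hord : ∀ j, T ^ j = 1 ↔ K ∣ j)
    (hKm : K = A * m) (hx0 : x ≡ 0 [MOD A]) (hx1 : x ≡ 1 [MOD m]) (t : ℕ) :
    (T ^ x) ^ t = 1 ↔ m ∣ t := by
  rw [← pow_mul, hord, hKm]
  have hA : A ∣ x := (Nat.modEq_zero_iff_dvd).1 hx0
  have hcop : Nat.Coprime m x := by
    have h1 : Nat.gcd m x = Nat.gcd m 1 := by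
      rw [Nat.gcd_comm m x, Nat.gcd_comm m 1]
      exact hx1.gcd_eq
    rw [Nat.Coprime, h1]
    simp
  constructor
  · intro h
    have h2 : m ∣ x * t := Dvd.dvd.trans (Dvd.intro_left A rfl) h
    exact hcop.dvd_of_dvd_mul_left h2
  · intro h
    exact Nat.mul_dvd_mul hA h

theorem parts {M : Type*} [Monoid M] (T : M) {K : ℕ} (hK : 0 < K) (hord : ∀ j, T ^ j = 1 ↔ K ∣ j) :
    ∃ a m x y : ℕ, Odd m ∧ K = 2 ^ a * m ∧ (∀ t, (T ^ x) ^ t = 1 ↔ m ∣ t) ∧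
      (∀ t, (T ^ y) ^ t = 1 ↔ 2 ^ a ∣ t) ∧ T ^ x * T ^ y = T := by
  obtain ⟨a, m, hm, hKm⟩ := Nat.exists_eq_two_pow_mul_odd hK.ne'
  have hcop : Nat.Coprime (2 ^ a) m := Nat.Coprime.pow_left _ (Nat.coprime_two_left.2 hm)
  obtain ⟨x, hx0, hx1⟩ := Nat.chineseRemainder hcop 0 1
  obtain ⟨y, hy1, hy0⟩ := Nat.chineseRemainder hcop 1 0
  refine ⟨a, m, x, y, hm, hKm, parts_aux T hord hKm hx0 hx1,
    parts_aux T hord (by rw [hKm, mul_comm]) hy0 hy1, ?_⟩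
  have hTK : T ^ K = 1 := (hord K).2 dvd_rfl
  have hxy : x + y ≡ 1 [MOD K] := by
    rw [hKm]
    rw [← Nat.modEq_and_modEq_iff_modEq_mul hcop]
    constructor
    · simpa using hx0.add hy1
    · simpa using hx1.add hy0
  rw [← pow_add, pow_eq_pow_mod (x + y) hTK, hxy, ← pow_eq_pow_mod 1 hTK, pow_one]

end Cfsg.Agent.Lib.Helper11.SP8
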