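import Mathlib

set_option autoImplicit false

namespace Cfsg.Agent.Lib.Helper11

variable {G : Type*} [Group G]

/-- A simple group that is not cyclic is not commutative. -/
theorem exists_not_comm_of_simple [IsSimpleGroup G] (hG : ¬ IsCyclic G) :
    ∃ x y : G, x * y ≠ y * x := by
  by_contra h
  push Not at h
  let _ : CommGroup G := { (inferInstance : Group G) with mul_comm := h }
  exact hG IsSimpleGroup.isCyclic

theorem center_eq_bot_of_simple [IsSimpleGroup G] (hG : ¬ IsCyclic G) :
    Subgroup.center G = ⊥ := by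
  rcases (Subgroup.center G).normal_of_characteristic.eq_bot_or_eq_top with h | h
  · exact h
  · exfalso
    obtain ⟨x, y, hxy⟩ := exists_not_comm_of_simple hG
    have hy : y ∈ Subgroup.center G := h ▸ Subgroup.mem_top y
    exact hxy (Subgroup.mem_center_iff.mp hy x)

theorem not_isPGroup_of_simple [Finite G] [IsSimpleGroup G] (hG : ¬ IsCyclic G) (p : ℕ)
    [Fact p.Prime] : ¬ IsPGroup p G := by
  intro h
  have := h.center_nontrivial
  rw [center_eq_bot_of_simple hG] at this
  exact not_subsingleton (⊥ : Subgroup G) inferInstance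

theorem two_lt_card_of_simple [Finite G] [IsSimpleGroup G] (hG : ¬ IsCyclic G) :
    2 < Nat.card G := by
  by_contra h
  have h1 : 1 < Nat.card G := Finite.one_lt_card
  have h2 : Nat.card G = 2 := by omega
  have : Fact (Nat.Prime 2) := ⟨Nat.prime_two⟩
  exact hG (isCyclic_of_prime_card h2)

/-- A homomorphism from a non-cyclic simple group to a group of order at most two is trivial. -/
theorem sign_comp_trivial [Finite G] [IsSimpleGroup G] (hG : ¬ IsCyclic G) (f : G →* ℤˣ) (g : G) :
    f g = 1 := by
  rcases f.normal_ker.eq_bot_or_eq_top with h | h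
  · exfalso
    have hinj : Function.Injective f := (MonoidHom.ker_eq_bot_iff f).mp h
    have h1 : Nat.card G ≤ Nat.card ℤˣ := Nat.card_le_card_of_injective f hinj
    have h2 : Nat.card ℤˣ = 2 := by simp
    have := two_lt_card_of_simple hG
    omega
  · exact MonoidHom.mem_ker.mp (h ▸ Subgroup.mem_top g)

/-- A non-cyclic simple group with a proper subgroup of index `n` embeds in the alternating group
of degree `n`. -/
theorem exists_embedding_alternating [Finite G] [IsSimpleGroup G] (hG : ¬ IsCyclic G)
    (H : Subgroup G) (hH : H ≠ ⊤) (n : ℕ) (hn : H.index = n) :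
    ∃ f : G →* alternatingGroup (Fin n), Function.Injective f := by
  classical
  have hcard : Nat.card (G ⧸ H) = n := hn
  have : Fintype (G ⧸ H) := Fintype.ofFinite _
  have e : (G ⧸ H) ≃ Fin n := by
    apply Fintype.equivFinOfCardEq
    rw [← Nat.card_eq_fintype_card]; exact hcard
  let φ : G →* Equiv.Perm (Fin n) := (e.permCongrHom.toMonoidHom).comp (MulAction.toPermHom G (G ⧸ H))
  have hker : φ.ker = ⊥ := by
    rcases φ.normal_ker.eq_bot_or_eq_top with h | h
    · exact h
    · exfalso
      apply hH
      have h1 : (MulAction.toPermHom G (G ⧸ H)).ker = ⊤ := by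
        rw [eq_top_iff]
        intro g _
        have hg : φ g = 1 := MonoidHom.mem_ker.mp (h ▸ Subgroup.mem_top g)
        rw [MonoidHom.mem_ker]
        have : e.permCongrHom (MulAction.toPermHom G (G ⧸ H) g) = e.permCongrHom 1 := by
          rw [map_one]; exact hg
        exact e.permCongrHom.injective this
      rw [← Subgroup.normalCore_eq_ker] at h1
      exact top_le_iff.mp (h1 ▸ Subgroup.normalCore_le H)
  have hinj : Function.Injective φ := (MonoidHom.ker_eq_bot_iff φ).mp hker
  have hmem : ∀ g, φ g ∈ alternatingGroup (Fin n) := by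
    intro g
    rw [Equiv.Perm.mem_alternatingGroup]
    exact sign_comp_trivial hG (Equiv.Perm.sign.comp φ) g
  refine ⟨φ.codRestrict _ hmem, ?_⟩
  intro a b hab
  apply hinj
  exact congrArg Subtype.val hab

theorem two_mul_card_dvd_factorial [Finite G] [IsSimpleGroup G] (hG : ¬ IsCyclic G)
    (H : Subgroup G) (hH : H ≠ ⊤) : 2 * Nat.card G ∣ (H.index).factorial := by
  classical
  obtain ⟨f, hf⟩ := exists_embedding_alternating hG H hH _ rfl
  have h1 : Nat.card G ∣ Nat.card (alternatingGroup (Fin H.index)) :=
    Subgroup.card_dvd_of_injective f hf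
  have h2 : 1 < H.index := by
    have h0 : H.index ≠ 0 := Subgroup.index_ne_zero_of_finite
    have h1 : H.index ≠ 1 := fun h => hH (Subgroup.index_eq_one.mp h)
    omega
  have : Nontrivial (Fin H.index) := Fin.nontrivial_iff_two_le.mpr h2
  have h3 : 2 * Nat.card (alternatingGroup (Fin H.index)) = (H.index).factorial := by
    rw [two_mul_nat_card_alternatingGroup, Nat.card_perm, Nat.card_fin]
  rw [← h3]
  exact Nat.mul_dvd_mul_left 2 h1

/-- In a non-cyclic simple group, no Sylow subgroup for a prime dividing the order is normal. -/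
theorem normalizer_sylow_ne_top [Finite G] [IsSimpleGroup G] (hG : ¬ IsCyclic G) (p : ℕ)
    [Fact p.Prime] (hp : p ∣ Nat.card G) (P : Sylow p G) :
    Subgroup.normalizer ((P : Subgroup G) : Set G) ≠ ⊤ := by
  intro h
  have hn : (P : Subgroup G).Normal := Subgroup.normalizer_eq_top_iff.mp h
  rcases hn.eq_bot_or_eq_top with h1 | h1
  · have := P.dvd_card_of_dvd_card hp
    rw [h1, Subgroup.card_bot] at this
    exact (Fact.out : p.Prime).one_lt.ne' (Nat.dvd_one.mp this)
  · apply not_isPGroup_of_simple hG p
    have := P.isPGroup'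
    rw [h1] at this
    exact this.of_equiv Subgroup.topEquiv

/-- Burnside: in a non-cyclic simple group the normalizer of a Sylow subgroup (for a prime
dividing the order) is not contained in its centralizer. -/
theorem not_normalizer_le_centralizer [Finite G] [IsSimpleGroup G] (hG : ¬ IsCyclic G) (p : ℕ)
    [Fact p.Prime] (hp : p ∣ Nat.card G) (P : Sylow p G) :
    ¬ Subgroup.normalizer ((P : Subgroup G) : Set G) ≤ Subgroup.centralizer ((P : Subgroup G) : Set G) := by
  intro h
  have hc := MonoidHom.ker_transferSylow_isComplement' P h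
  have hcard := hc.card_mul_card
  rcases (MonoidHom.transferSylow P h).normal_ker.eq_bot_or_eq_top with h1 | h1
  · rw [h1, Subgroup.card_bot, one_mul] at hcard
    apply not_isPGroup_of_simple hG p
    have h2 : (P : Subgroup G) = ⊤ := Subgroup.eq_top_of_card_eq _ hcard
    have := P.isPGroup'
    rw [h2] at this
    exact this.of_equiv Subgroup.topEquiv
  · rw [h1, Subgroup.card_top] at hcard
    have h2 : Nat.card (P : Subgroup G) = 1 := by
      have hpos : 0 < Nat.card G := Nat.card_pos
      exact Nat.eq_of_mul_eq_mul_left hpos (by rw [hcard, mul_one])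
    have := P.dvd_card_of_dvd_card hp
    rw [h2] at this
    exact (Fact.out : p.Prime).one_lt.ne' (Nat.dvd_one.mp this)

end Cfsg.Agent.Lib.Helper11

namespace Cfsg.Agent.Lib.Helper11

variable {G : Type*} [Group G]

theorem sylow_card_index [Finite G] (p a m : ℕ) [Fact p.Prime] (hm : ¬ p ∣ m)
    (hcard : Nat.card G = p ^ a * m) (P : Sylow p G) :
    Nat.card (P : Subgroup G) = p ^ a ∧ (P : Subgroup G).index = m := by
  have hp : p.Prime := Fact.out
  have hm0 : m ≠ 0 := by
    rintro rfl
    exact hm (dvd_zero p)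
  have h1 : Nat.card (P : Subgroup G) = p ^ a := by
    rw [P.card_eq_multiplicity, hcard, Nat.factorization_mul (pow_ne_zero _ hp.ne_zero) hm0,
      hp.factorization_pow]
    simp [Nat.factorization_eq_zero_of_not_dvd hm]
  refine ⟨h1, ?_⟩
  have h2 := (P : Subgroup G).card_mul_index
  rw [h1, hcard] at h2
  exact Nat.eq_of_mul_eq_mul_left (pow_pos hp.pos a) h2

/-- The numerical restrictions on the number `d` of Sylow `p`-subgroups of a non-cyclic simple group
of order `p ^ a * m`. -/
theorem sylow_numerics [Finite G] [IsSimpleGroup G] (hG : ¬ IsCyclic G) (p a m : ℕ)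
    [Fact p.Prime] (ha : 0 < a) (hm : ¬ p ∣ m) (hcard : Nat.card G = p ^ a * m) (P : Sylow p G) :
    ∃ d, (Subgroup.normalizer ((P : Subgroup G) : Set G)).index = d ∧ d ∣ m ∧ d % p = 1 ∧ d ≠ 1 ∧
      2 * (p ^ a * m) ∣ d.factorial ∧ (a ≤ 2 → m / d ≠ 1) ∧
      (a = 1 → Nat.gcd (m / d) (p - 1) ≠ 1) := by
  classical
  have hp : p.Prime := Fact.out
  have hpG : p ∣ Nat.card G := by
    rw [hcard]
    exact Dvd.dvd.mul_right (dvd_pow_self p ha.ne') m
  obtain ⟨hPc, hPi⟩ := sylow_card_index p a m hm hcard P
  set N := Subgroup.normalizer ((P : Subgroup G) : Set G) with hN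
  have hNtop : N ≠ ⊤ := normalizer_sylow_ne_top hG p hpG P
  have hd : Nat.card (Sylow p G) = N.index := P.card_eq_index_normalizer
  have hdm : N.index ∣ m := by
    rw [← hd, ← hPi]
    exact P.card_dvd_index
  have hd0 : 0 < N.index := Nat.pos_of_ne_zero Subgroup.index_ne_zero_of_finite
  have hrel : (P : Subgroup G).relIndex N = m / N.index := by
    have := Subgroup.relIndex_mul_index (Subgroup.le_normalizer (H := (P : Subgroup G)))
    rw [hPi] at this
    exact (Nat.div_eq_of_eq_mul_left hd0 this.symm).symm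
  have hBurn := not_normalizer_le_centralizer hG p hpG P
  refine ⟨N.index, rfl, hdm, ?_, ?_, ?_, ?_, ?_⟩
  · have := card_sylow_modEq_one p G
    rw [hd] at this
    rw [this, Nat.mod_eq_of_lt hp.one_lt]
  · exact fun h => hNtop (Subgroup.index_eq_one.mp h)
  · rw [← hcard]
    exact two_mul_card_dvd_factorial hG N hNtop
  · intro ha2 hone
    apply hBurn
    have hcomm : IsMulCommutative (P : Subgroup G) := by
      have h12 : a = 1 ∨ a = 2 := by omega
      rcases h12 with rfl | rfl
      · have : IsCyclic (P : Subgroup G) := isCyclic_of_prime_card (p := p) (by rw [hPc, pow_one])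
        exact ⟨⟨IsCyclic.commGroup.mul_comm⟩⟩
      · exact IsPGroup.isMulCommutative_of_card_eq_prime_sq hPc
    have hle : N ≤ (P : Subgroup G) := by
      rw [← hrel] at hone
      exact Subgroup.relIndex_eq_one.mp hone
    refine hle.trans ?_
    intro x hx
    rw [Subgroup.mem_centralizer_iff]
    intro y hy
    exact congrArg Subtype.val (hcomm.is_comm.comm ⟨y, hy⟩ ⟨x, hx⟩)
  · rintro rfl hgcd
    apply hBurn
    have hcyc : IsCyclic (P : Subgroup G) := isCyclic_of_prime_card (p := p) (by rw [hPc, pow_one])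
    have key := Subgroup.card_dvd_of_injective _
      (QuotientGroup.kerLift_injective (P : Subgroup G).normalizerMonoidHom)
    rw [Subgroup.normalizerMonoidHom_ker, ← Subgroup.index, ← Subgroup.relIndex] at key
    rw [hcyc.card_mulAut, hPc, pow_one, Nat.totient_prime hp] at key
    have hPC : (P : Subgroup G) ≤ Subgroup.centralizer ((P : Subgroup G) : Set G) := by
      intro x hx
      rw [Subgroup.mem_centralizer_iff]
      intro y hy
      exact congrArg Subtype.val (IsCyclic.commGroup.mul_comm (⟨y, hy⟩ : (P : Subgroup G)) ⟨x, hx⟩)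
    have key2 : (Subgroup.centralizer ((P : Subgroup G) : Set G)).relIndex N ∣ m / N.index := by
      rw [← hrel]
      exact Subgroup.relIndex_dvd_of_le_left _ hPC
    have h1 : (Subgroup.centralizer ((P : Subgroup G) : Set G)).relIndex N ∣ 1 := by
      rw [← hgcd]
      exact Nat.dvd_gcd key2 key
    exact Subgroup.relIndex_eq_one.mp (Nat.dvd_one.mp h1)

/-- The decidable test used to exclude an order `p ^ a * m`. -/
def sylowTest (p a m : ℕ) : Prop :=
  ∀ d < m + 1, d ∣ m → d % p = 1 → d = 1 ∨ ¬ (2 * (p ^ a * m) ∣ d.factorial) ∨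
    (a ≤ 2 ∧ m / d = 1) ∨ (a = 1 ∧ Nat.gcd (m / d) (p - 1) = 1)

instance sylowTest_decidable (p a m : ℕ) : Decidable (sylowTest p a m) := by
  unfold sylowTest
  infer_instance

theorem card_ne_of_sylowTest [Finite G] [IsSimpleGroup G] (hG : ¬ IsCyclic G) (p a m : ℕ)
    (hp : p.Prime) (ha : 0 < a) (hm : ¬ p ∣ m) (ht : sylowTest p a m) :
    Nat.card G ≠ p ^ a * m := by
  intro hcard
  have : Fact p.Prime := ⟨hp⟩
  obtain ⟨P⟩ : Nonempty (Sylow p G) := inferInstance
  obtain ⟨d, -, h1, h2, h3, h4, h5, h6⟩ := sylow_numerics hG p a m ha hm hcard P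
  have hm0 : 0 < m := by
    rcases Nat.eq_zero_or_pos m with rfl | h
    · exact absurd (dvd_zero p) hm
    · exact h
  rcases ht d (Nat.lt_succ_of_le (Nat.le_of_dvd hm0 h1)) h1 h2 with h | h | h | h
  · exact h3 h
  · exact h h4
  · exact h5 h.1 h.2
  · exact h6 h.1 h.2

end Cfsg.Agent.Lib.Helper11
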