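import Mathlib

/-!
Sylow `2`-subgroups of finite symmetric groups are self-normalizing.

The transpositions contained in a Sylow `2`-subgroup `T` of `Perm Ω` form a matching `τ` of `Ω`
with at most one unmatched point, which is canonically attached to `T`; the normalizer of `T`
therefore acts on the set of pairs and one concludes by induction.
-/

set_option autoImplicit false

namespace Cfsg.Agent.Lib.Helper11.SymSyl

open Equiv Equiv.Perm Subgroup

section Basic

variable {Ω : Type*}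

theorem app_inv (a : Perm Ω) (x : Ω) : a (a⁻¹ x) = x := (eq_symm_apply a).mp rfl

theorem inv_app (a : Perm Ω) (x : Ω) : a⁻¹ (a x) = x := inv_eq_iff_eq.mpr rfl

/-- an involution with at most one fixed point. -/
structure IsMatching (τ : Perm Ω) : Prop where
  sq : ∀ x, τ (τ x) = x
  fix : ∀ x y, τ x = x → τ y = y → x = y

/-- permutations preserving every pair of the matching. -/
def EE (τ : Perm Ω) (hτ : ∀ x, τ (τ x) = x) : Subgroup (Perm Ω) where
  carrier := {σ | ∀ x, σ x = x ∨ σ x = τ x}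
  one_mem' := fun _ => Or.inl rfl
  mul_mem' := by
    intro a b ha hb x
    rw [Perm.mul_apply]
    rcases hb x with h | h
    · rw [h]; exact ha x
    · rw [h]
      rcases ha (τ x) with h' | h'
      · exact Or.inr h'
      · left; rw [h', hτ]
  inv_mem' := by
    intro a ha x
    rcases ha (a⁻¹ x) with h | h
    · left
      rw [app_inv] at h
      exact h.symm
    · right
      rw [app_inv] at h
      have := congrArg τ h
      rw [hτ] at this
      exact this.symm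

theorem mem_EE {τ : Perm Ω} {hτ : ∀ x, τ (τ x) = x} {σ : Perm Ω} :
    σ ∈ EE τ hτ ↔ ∀ x, σ x = x ∨ σ x = τ x := Iff.rfl

theorem sq_of_pairs {τ σ : Perm Ω} (hτ : ∀ x, τ (τ x) = x) (h : ∀ x, σ x = x ∨ σ x = τ x) :
    σ * σ = 1 := by
  ext x
  rw [Perm.mul_apply, Perm.one_apply]
  rcases h x with h1 | h1
  · rw [h1, h1]
  · rcases h (τ x) with h2 | h2
    · have : τ x = x := σ.injective (h2.trans h1.symm)
      rw [h1, h2, this]
    · rw [h1, h2, hτ]

theorem isPGroup_EE (τ : Perm Ω) (hτ : ∀ x, τ (τ x) = x) : IsPGroup 2 (EE τ hτ) := by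
  intro g
  refine ⟨1, ?_⟩
  apply Subtype.ext
  have := sq_of_pairs hτ g.2
  simpa [pow_two] using this

end Basic

section Dec

variable {Ω : Type*} [DecidableEq Ω]

theorem swap_pairs (τ : Perm Ω) (hτ : ∀ x, τ (τ x) = x) (a : Ω) :
    ∀ x, swap a (τ a) x = x ∨ swap a (τ a) x = τ x := by
  intro x
  by_cases h1 : x = a
  · subst h1; right; rw [swap_apply_left]
  by_cases h2 : x = τ a
  · subst h2; right; rw [swap_apply_right, hτ]
  · left; exact swap_apply_of_ne_of_ne h1 h2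

variable [Fintype Ω]

theorem exists_matching : ∃ τ : Perm Ω, IsMatching τ := by
  classical
  obtain ⟨τ, hτ, hmax⟩ := Finset.exists_max_image
    (Finset.univ.filter (fun τ : Perm Ω => τ * τ = 1)) (fun τ => τ.support.card)
    ⟨1, by simp⟩
  have hτ' : τ * τ = 1 := (Finset.mem_filter.mp hτ).2
  refine ⟨τ, ⟨fun x => by
    have := congrArg (fun f : Perm Ω => f x) hτ'
    simpa using this, ?_⟩⟩
  intro x y hx hy
  by_contra hxy
  have hd : Perm.Disjoint (swap x y) τ := by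
    intro z
    by_cases h1 : z = x
    · right; rw [h1, hx]
    by_cases h2 : z = y
    · right; rw [h2, hy]
    · left; exact swap_apply_of_ne_of_ne h1 h2
  have h1 : (swap x y * τ) * (swap x y * τ) = 1 := by
    have hc := hd.commute.eq
    calc (swap x y * τ) * (swap x y * τ) = swap x y * (τ * swap x y) * τ := by group
      _ = swap x y * (swap x y * τ) * τ := by rw [hc]
      _ = (swap x y * swap x y) * (τ * τ) := by group
      _ = 1 := by rw [swap_mul_self, hτ', one_mul]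
  have h2 := hmax (swap x y * τ) (Finset.mem_filter.mpr ⟨Finset.mem_univ _, h1⟩)
  rw [hd.card_support_mul, card_support_swap hxy] at h2
  omega

theorem exists_matching_le (T : Sylow 2 (Perm Ω)) :
    ∃ τ : Perm Ω, IsMatching τ ∧ ∀ σ : Perm Ω, (∀ x, σ x = x ∨ σ x = τ x) → σ ∈ T := by
  obtain ⟨τ0, h0⟩ := exists_matching (Ω := Ω)
  obtain ⟨Q, hQ⟩ := (isPGroup_EE τ0 h0.sq).exists_le_sylow
  obtain ⟨g, hg⟩ := MulAction.exists_smul_eq (Perm Ω) Q T
  refine ⟨g * τ0 * g⁻¹, ⟨fun x => ?_, fun x y hx hy => ?_⟩, fun σ hσ => ?_⟩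
  · simp [Perm.mul_apply, h0.sq]
  · have h1 : τ0 (g⁻¹ x) = g⁻¹ x := by
      have := congrArg (fun z => g⁻¹ z) hx
      simpa [Perm.mul_apply] using this
    have h2 : τ0 (g⁻¹ y) = g⁻¹ y := by
      have := congrArg (fun z => g⁻¹ z) hy
      simpa [Perm.mul_apply] using this
    exact (g⁻¹).injective (h0.fix _ _ h1 h2)
  · have h1 : g⁻¹ * σ * g ∈ EE τ0 h0.sq := by
      intro y
      rcases hσ (g y) with h | h
      · left; simp [Perm.mul_apply, h]
      · right; simp [Perm.mul_apply, h]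
    have h2 := hQ h1
    rw [← hg]
    show σ ∈ ((g • Q : Sylow 2 (Perm Ω)) : Subgroup (Perm Ω))
    rw [Sylow.coe_subgroup_smul, Subgroup.mem_pointwise_smul_iff_inv_smul_mem]
    simpa [MulAut.smul_def, MulAut.conj_inv_apply] using h2

theorem not_three {Q : Subgroup (Perm Ω)} (hQ : IsPGroup 2 Q) {a b c : Ω} (hab : a ≠ b)
    (hac : a ≠ c) (hbc : b ≠ c) (h1 : swap a b ∈ Q) (h2 : swap a c ∈ Q) : False := by
  have h3 := (isThreeCycle_swap_mul_swap_same hab hac hbc).orderOf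
  obtain ⟨k, hk⟩ := hQ ⟨_, Q.mul_mem h1 h2⟩
  have hk' : (swap a b * swap a c) ^ 2 ^ k = 1 := by
    have := congrArg Subtype.val hk
    simpa using this
  have h4 := orderOf_dvd_of_pow_eq_one hk'
  rw [h3] at h4
  have := Nat.Prime.dvd_of_dvd_pow Nat.prime_three h4
  omega

theorem swap_unique {Q : Subgroup (Perm Ω)} (hQ : IsPGroup 2 Q) {τ : Perm Ω} (hτ : IsMatching τ)
    (hE : ∀ x, swap x (τ x) ∈ Q) {a b : Ω} (hab : a ≠ b) (h : swap a b ∈ Q) : b = τ a := by
  by_contra hb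
  by_cases ha : τ a = a
  · have hb1 : τ b ≠ b := fun h' => hab (hτ.fix _ _ ha h')
    have hb2 : τ b ≠ a := by
      intro h'
      have := hτ.sq b
      rw [h', ha] at this
      exact hab this
    refine not_three hQ hab.symm (Ne.symm hb1) (Ne.symm hb2) ?_ (hE b)
    rwa [swap_comm]
  · exact not_three hQ hab (Ne.symm ha) hb h (hE a)

theorem comm_of_normalizer {Q : Subgroup (Perm Ω)} (hQ : IsPGroup 2 Q) {τ : Perm Ω}
    (hτ : IsMatching τ) (hE : ∀ x, swap x (τ x) ∈ Q) {x : Perm Ω}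
    (hx : x ∈ normalizer (Q : Set (Perm Ω))) (a : Ω) : x (τ a) = τ (x a) := by
  have key : ∀ y ∈ normalizer (Q : Set (Perm Ω)), ∀ c : Ω, τ c ≠ c → y (τ c) = τ (y c) := by
    intro y hy c hc
    have h1 : swap (y c) (y (τ c)) ∈ Q := by
      rw [swap_apply_apply]
      exact (mem_normalizer_iff.mp hy _).mp (hE c)
    exact swap_unique hQ hτ hE (fun h => hc (y.injective h).symm) h1
  by_cases ha : τ a = a
  · rw [ha]
    by_contra hne
    have h2 := key x⁻¹ (Subgroup.inv_mem _ hx) (x a) (Ne.symm hne)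
    rw [inv_app, ha] at h2
    have := congrArg x h2
    rw [app_inv] at this
    exact hne this.symm
  · exact key x hx a ha

end Dec

section Order

variable {Ω : Type*} [LinearOrder Ω]

/-- permutations commuting with `τ`. -/
def CC (τ : Perm Ω) : Subgroup (Perm Ω) where
  carrier := {σ | ∀ x, σ (τ x) = τ (σ x)}
  one_mem' := fun _ => rfl
  mul_mem' := by
    intro a b ha hb x
    rw [Perm.mul_apply, Perm.mul_apply, hb, ha]
  inv_mem' := by
    intro a ha x
    apply a.injective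
    rw [app_inv, ha, app_inv]

omit [LinearOrder Ω] in
theorem mem_CC {τ σ : Perm Ω} : σ ∈ CC τ ↔ ∀ x, σ (τ x) = τ (σ x) := Iff.rfl

/-- representatives of the pairs. -/
abbrev RR (τ : Perm Ω) := {x : Ω // x < τ x}

/-- the representative of a point. -/
def rho (τ : Perm Ω) (x : Ω) : Ω := min x (τ x)

theorem rho_tau {τ : Perm Ω} (hτ : ∀ x, τ (τ x) = x) (x : Ω) : rho τ (τ x) = rho τ x := by
  unfold rho; rw [hτ, min_comm]

theorem rho_cases (τ : Perm Ω) (x : Ω) : rho τ x = x ∨ rho τ x = τ x := min_choice _ _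

theorem rho_lt {τ : Perm Ω} (hτ : ∀ x, τ (τ x) = x) (x : Ω) (hx : τ x ≠ x) :
    rho τ x < τ (rho τ x) := by
  unfold rho
  rcases lt_or_gt_of_ne hx with h | h
  · rw [min_eq_right h.le, hτ]; exact h
  · rw [min_eq_left h.le]; exact h

theorem rho_of_lt {τ : Perm Ω} (x : Ω) (h : x < τ x) : rho τ x = x := min_eq_left h.le

theorem rho_comm {τ : Perm Ω} (hτ : ∀ x, τ (τ x) = x) {a : Perm Ω} (ha : a ∈ CC τ) (y : Ω) :
    rho τ (a (rho τ y)) = rho τ (a y) := by
  rcases rho_cases τ y with h | h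
  · rw [h]
  · rw [h, mem_CC.mp ha, rho_tau hτ]

/-- the action on representatives. -/
def phiFun (τ : Perm Ω) (hτ : ∀ x, τ (τ x) = x) (σ : CC τ) (r : RR τ) : RR τ :=
  ⟨rho τ (σ.1 r.1), rho_lt hτ _ (by
    intro h
    rw [← mem_CC.mp σ.2 r.1] at h
    exact (ne_of_gt r.2) (σ.1.injective h))⟩

/-- the action on representatives, as a homomorphism. -/
def phiEnd (τ : Perm Ω) (hτ : ∀ x, τ (τ x) = x) : CC τ →* Function.End (RR τ) where
  toFun := phiFun τ hτ
  map_one' := funext fun r => Subtype.ext (rho_of_lt r.1 r.2)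
  map_mul' := fun a b => funext fun r => Subtype.ext (rho_comm hτ a.2 (b.1 r.1)).symm

/-- the action on representatives, as a homomorphism to the symmetric group. -/
def phi (τ : Perm Ω) (hτ : ∀ x, τ (τ x) = x) : CC τ →* Perm (RR τ) :=
  MonoidHom.toHomPerm (phiEnd τ hτ)

theorem phi_apply (τ : Perm Ω) (hτ : ∀ x, τ (τ x) = x) (σ : CC τ) (r : RR τ) :
    ((phi τ hτ σ r : RR τ) : Ω) = rho τ (σ.1 r.1) := rfl

theorem ker_pairs {τ : Perm Ω} (hτ : IsMatching τ) (σ : CC τ) (h : phi τ hτ.sq σ = 1) (x : Ω) :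
    σ.1 x = x ∨ σ.1 x = τ x := by
  have key : ∀ r : Ω, r < τ r → σ.1 r = r ∨ σ.1 r = τ r := by
    intro r hr
    have h1 : rho τ (σ.1 r) = r := by
      have := phi_apply τ hτ.sq σ ⟨r, hr⟩
      rw [h] at this
      exact this.symm
    rcases rho_cases τ (σ.1 r) with h2 | h2
    · left; rw [← h2, h1]
    · right
      rw [h1] at h2
      have := congrArg τ h2
      rw [hτ.sq] at this
      exact this.symm
  rcases lt_trichotomy x (τ x) with h1 | h1 | h1
  · exact key x h1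
  · left
    apply hτ.fix _ _ _ h1.symm
    rw [← mem_CC.mp σ.2, ← h1]
  · have h2 : τ x < τ (τ x) := by rw [hτ.sq]; exact h1
    have h3 : σ.1 x = τ (σ.1 (τ x)) := by rw [← mem_CC.mp σ.2, hτ.sq]
    rcases key (τ x) h2 with h | h
    · left; rw [h3, h, hτ.sq]
    · right; rw [h3, h, hτ.sq]

/-- a lift of a permutation of the representatives. -/
def lift (τ : Perm Ω) (π : Perm (RR τ)) : Perm Ω := ofSubtype π * (τ * ofSubtype π * τ)

theorem lift_of_lt {τ : Perm Ω} (hτ : ∀ x, τ (τ x) = x) (π : Perm (RR τ)) (x : Ω)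
    (h : x < τ x) : lift τ π x = π ⟨x, h⟩ := by
  have h1 : ¬ (τ x < τ (τ x)) := by rw [hτ]; exact not_lt.mpr h.le
  unfold lift
  rw [Perm.mul_apply, Perm.mul_apply, Perm.mul_apply, ofSubtype_apply_of_not_mem π h1, hτ,
    ofSubtype_apply_of_mem π h]

theorem lift_of_gt {τ : Perm Ω} (hτ : ∀ x, τ (τ x) = x) (π : Perm (RR τ)) (x : Ω)
    (h : τ x < τ (τ x)) : lift τ π x = τ (π ⟨τ x, h⟩) := by
  have h1 : ¬ (τ (π ⟨τ x, h⟩ : Ω) < τ (τ (π ⟨τ x, h⟩ : Ω))) := by
    rw [hτ]; exact not_lt.mpr (π ⟨τ x, h⟩).2.le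
  unfold lift
  rw [Perm.mul_apply, Perm.mul_apply, Perm.mul_apply, ofSubtype_apply_of_mem π h,
    ofSubtype_apply_of_not_mem π h1]

theorem lift_of_fix {τ : Perm Ω} (π : Perm (RR τ)) (x : Ω)
    (h : τ x = x) : lift τ π x = x := by
  have h1 : ¬ (x < τ x) := by rw [h]; exact lt_irrefl x
  unfold lift
  rw [Perm.mul_apply, Perm.mul_apply, Perm.mul_apply, h, ofSubtype_apply_of_not_mem π h1, h,
    ofSubtype_apply_of_not_mem π h1]

theorem lift_mem {τ : Perm Ω} (hτ : ∀ x, τ (τ x) = x) (π : Perm (RR τ)) : lift τ π ∈ CC τ := by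
  intro x
  rcases lt_trichotomy x (τ x) with h1 | h1 | h1
  · have h2 : τ (τ x) < τ (τ (τ x)) := by rw [hτ]; exact h1
    rw [lift_of_lt hτ π x h1, lift_of_gt hτ π (τ x) h2]
    congr 3
    exact Subtype.ext (hτ x)
  · rw [← h1, lift_of_fix π x h1.symm, ← h1]
  · have h2 : τ x < τ (τ x) := by rw [hτ]; exact h1
    rw [lift_of_lt hτ π (τ x) h2, lift_of_gt hτ π x h2, hτ]

theorem phi_lift {τ : Perm Ω} (hτ : ∀ x, τ (τ x) = x) (π : Perm (RR τ)) :
    phi τ hτ ⟨lift τ π, lift_mem hτ π⟩ = π := by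
  ext r
  rw [phi_apply]
  show rho τ (lift τ π r.1) = _
  rw [lift_of_lt hτ π r.1 r.2]
  exact rho_of_lt _ (π r).2

theorem isPGroup_ker {τ : Perm Ω} (hτ : IsMatching τ) : IsPGroup 2 (phi τ hτ.sq).ker := by
  intro g
  refine ⟨1, ?_⟩
  apply Subtype.ext
  apply Subtype.ext
  have := sq_of_pairs hτ.sq (ker_pairs hτ g.1 g.2)
  simpa [pow_two] using this

end Order

theorem normalizer_le_aux : ∀ (n : ℕ) (Ω : Type) [Fintype Ω] [LinearOrder Ω],
    Fintype.card Ω = n → ∀ T : Sylow 2 (Perm Ω),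
      normalizer ((T : Subgroup (Perm Ω)) : Set (Perm Ω)) ≤ T := by
  intro n
  induction n using Nat.strong_induction_on with
  | _ n ih =>
  intro Ω _ _ hn T x hx
  by_cases hemp : IsEmpty Ω
  · have : x = 1 := Subsingleton.elim _ _
    rw [this]; exact Subgroup.one_mem _
  rw [not_isEmpty_iff] at hemp
  obtain ⟨x0⟩ := hemp
  obtain ⟨τ, hτ, hE⟩ := exists_matching_le T
  have hsw : ∀ a, swap a (τ a) ∈ (T : Subgroup (Perm Ω)) :=
    fun a => hE _ (swap_pairs τ hτ.sq a)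
  have hNC : normalizer ((T : Subgroup (Perm Ω)) : Set (Perm Ω)) ≤ CC τ := by
    intro y hy a
    exact comm_of_normalizer T.2 hτ hsw hy a
  have hTC : (T : Subgroup (Perm Ω)) ≤ CC τ := le_normalizer.trans hNC
  have hcard : Fintype.card (RR τ) < n := by
    rw [← hn]
    by_cases h0 : x0 < τ x0
    · apply Fintype.card_subtype_lt (x := τ x0)
      rw [hτ.sq]; exact not_lt.mpr h0.le
    · exact Fintype.card_subtype_lt h0
  set φ := phi τ hτ.sq with hφ
  -- the image of `T`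
  let T1 : Subgroup (Perm (RR τ)) := ((T : Subgroup (Perm Ω)).subgroupOf (CC τ)).map φ
  have hT1 : IsPGroup 2 T1 := (T.2.comap_subtype).map φ
  have hmax : ∀ {Q : Subgroup (Perm (RR τ))}, IsPGroup 2 Q → T1 ≤ Q → Q = T1 := by
    intro Q hQ hle
    have h1 : IsPGroup 2 ((Q.comap φ).map (CC τ).subtype) :=
      (hQ.comap_of_ker_isPGroup φ (isPGroup_ker hτ)).map _
    have h2 : (T : Subgroup (Perm Ω)) ≤ (Q.comap φ).map (CC τ).subtype := by
      intro t ht
      refine ⟨⟨t, hTC ht⟩, ?_, rfl⟩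
      exact hle ⟨⟨t, hTC ht⟩, mem_subgroupOf.mpr ht, rfl⟩
    have h3 := T.is_maximal' h1 h2
    refine le_antisymm ?_ hle
    intro q hq
    have h4 : lift τ q ∈ (Q.comap φ).map (CC τ).subtype := by
      refine ⟨⟨lift τ q, lift_mem hτ.sq q⟩, ?_, rfl⟩
      show φ _ ∈ Q
      rw [hφ, phi_lift]; exact hq
    rw [h3] at h4
    exact ⟨⟨lift τ q, lift_mem hτ.sq q⟩, mem_subgroupOf.mpr h4, phi_lift hτ.sq q⟩
  let T2 : Sylow 2 (Perm (RR τ)) := ⟨T1, hT1, hmax⟩
  have hconj : ∀ y ∈ normalizer ((T : Subgroup (Perm Ω)) : Set (Perm Ω)), ∀ hy : y ∈ CC τ,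
      ∀ q ∈ T1, φ ⟨y, hy⟩ * q * (φ ⟨y, hy⟩)⁻¹ ∈ T1 := by
    rintro y hy hyC q ⟨t, ht, rfl⟩
    refine ⟨⟨y, hyC⟩ * t * ⟨y, hyC⟩⁻¹, ?_, by simp⟩
    have ht' : (t : Perm Ω) ∈ (T : Subgroup (Perm Ω)) := mem_subgroupOf.mp ht
    exact mem_subgroupOf.mpr ((mem_normalizer_iff.mp hy _).mp ht')
  have hxN : φ ⟨x, hNC hx⟩ ∈ normalizer ((T2 : Subgroup (Perm (RR τ))) : Set (Perm (RR τ))) := by
    rw [mem_normalizer_iff]
    intro q
    refine ⟨hconj x hx (hNC hx) q, fun h => ?_⟩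
    have h5 := hconj x⁻¹ (Subgroup.inv_mem _ hx) (Subgroup.inv_mem _ (hNC hx)) _ h
    have h6 : (⟨x⁻¹, Subgroup.inv_mem _ (hNC hx)⟩ : CC τ) = (⟨x, hNC hx⟩ : CC τ)⁻¹ := rfl
    rw [h6, map_inv] at h5
    simpa [mul_assoc] using h5
  obtain ⟨t, ht, hte⟩ := ih _ hcard (RR τ) rfl T2 hxN
  have h7 : t⁻¹ * ⟨x, hNC hx⟩ ∈ φ.ker := by
    rw [MonoidHom.mem_ker, map_mul, map_inv, hte, inv_mul_cancel]
  have h8 := hE _ (ker_pairs hτ _ h7)
  have h9 : x = t.1 * (t⁻¹ * ⟨x, hNC hx⟩ : CC τ).1 := by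
    simp
  rw [h9]
  exact Subgroup.mul_mem _ (mem_subgroupOf.mp ht) h8

/-- Sylow `2`-subgroups of finite symmetric groups are self-normalizing. -/
theorem normalizer_sylow_le (n : ℕ) (T : Sylow 2 (Perm (Fin n))) :
    normalizer ((T : Subgroup (Perm (Fin n))) : Set (Perm (Fin n))) ≤ T :=
  normalizer_le_aux n (Fin n) (Fintype.card_fin n) T

end Cfsg.Agent.Lib.Helper11.SymSyl
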