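import Mathlib
import Cfsg.Agent.Lib.Helper77.CoprimeAut

set_option autoImplicit false

namespace Cfsg.Agent.Lib.Helper11

open Subgroup

/-- A finite group with a cyclic subgroup of index at most two is generated by two elements. -/
theorem exists_two_gen_of_cyclic_index_le_two {Q : Type*} [Group Q] [Finite Q] (D : Subgroup Q)
    [IsCyclic D] (hD : D.index ≤ 2) : ∃ x y : Q, closure ({x, y} : Set Q) = ⊤ := by
  obtain ⟨c, hc⟩ := IsCyclic.exists_generator (α := D)
  have hDc : D ≤ zpowers (c : Q) := by
    intro d hd
    obtain ⟨k, hk⟩ := hc ⟨d, hd⟩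
    refine ⟨k, ?_⟩
    have := congrArg Subtype.val hk
    simpa using this
  by_cases htop : D = ⊤
  · refine ⟨c, c, ?_⟩
    rw [eq_top_iff, ← htop]
    refine hDc.trans ?_
    rw [zpowers_le]
    exact subset_closure (by simp)
  · obtain ⟨t, ht⟩ : ∃ t : Q, t ∉ D := by
      by_contra hcon
      push Not at hcon
      exact htop (eq_top_iff.2 fun x _ => hcon x)
    refine ⟨c, t, ?_⟩
    have hle : D ≤ closure ({(c : Q), t} : Set Q) := by
      refine hDc.trans ?_
      rw [zpowers_le]
      exact subset_closure (by simp)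
    have htK : t ∈ closure ({(c : Q), t} : Set Q) := subset_closure (by simp)
    generalize closure ({(c : Q), t} : Set Q) = K at hle htK
    have h1 : K.index ∣ D.index := index_dvd_of_le hle
    have h2 : D.index ≠ 0 := index_ne_zero_of_finite
    have h3 : D.index ≠ 1 := fun h => htop (index_eq_one.1 h)
    have h4 : D.index = 2 := by omega
    rw [h4] at h1
    rcases (Nat.dvd_prime Nat.prime_two).1 h1 with h5 | h5
    · exact index_eq_one.1 h5
    · exfalso
      have h6 := K.card_mul_index
      have h7 := D.card_mul_index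
      rw [h5] at h6
      rw [h4] at h7
      have h8 : Nat.card K ≤ Nat.card D := by omega
      have := eq_of_le_of_card_ge hle h8
      exact ht (this ▸ htK)

/-- An automorphism of order prime to `6` of a two-generated finite `2`-group is trivial. -/
theorem aut_eq_one_of_two_gen {Q : Type*} [Group Q] [Finite Q] (hQ : IsPGroup 2 Q) (x y : Q)
    (hxy : closure ({x, y} : Set Q) = ⊤) (β : MulAut Q) (hβ : (orderOf β).Coprime 6) : β = 1 := by
  by_contra hne
  have h1 : orderOf β ≠ 1 := fun h => hne (orderOf_eq_one_iff.1 h)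
  obtain ⟨r, hr, hrd⟩ := Nat.exists_prime_and_dvd h1
  have : Fact r.Prime := ⟨hr⟩
  have hpos : 0 < orderOf β := orderOf_pos β
  have h2 : orderOf (β ^ (orderOf β / r)) = r := by
    rw [orderOf_pow_of_dvd (by
      intro h0
      have := Nat.div_eq_zero_iff.1 h0
      rcases this with h | h
      · exact hr.ne_zero h
      · exact absurd (Nat.le_of_dvd hpos hrd) (by omega)) (Nat.div_dvd_of_dvd hrd)]
    exact Nat.div_div_self hrd hpos.ne'
  have hr6 : r.Coprime 6 := Nat.Coprime.coprime_dvd_left hrd hβ
  have hr2 : r ≠ 2 := by rintro rfl; revert hr6; decide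
  have hr3 : r ≠ 3 := by rintro rfl; revert hr6; decide
  have h3 := Cfsg.Agent.Lib.Helper77.aut_trivial_of_card_frattini_quotient (p := 2) (r := r) hQ
    (zpowers (β ^ (orderOf β / r)))
    (IsPGroup.of_card (n := 1) (by rw [Nat.card_zpowers, h2, pow_one])) hr2 2
    (Cfsg.Agent.Lib.Helper77.card_frattini_quotient_le_of_two_gen hQ x y hxy)
    (by
      intro i hi1 hi2 hd
      have : i = 1 ∨ i = 2 := by omega
      rcases this with rfl | rfl
      · have : r ∣ 1 := by simpa using hd
        exact hr.one_lt.ne' (Nat.dvd_one.1 this)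
      · have : r ∣ 3 := by simpa using hd
        exact hr3 ((Nat.prime_dvd_prime_iff_eq hr Nat.prime_three).1 this))
    _ (mem_zpowers _)
  rw [h3, orderOf_one] at h2
  exact hr.one_lt.ne h2

end Cfsg.Agent.Lib.Helper11
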